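import Groth.Agent.InvDescLib.Disjoint

/-!
# The relative Picard functor on rigidified classes
-/

set_option autoImplicit false
set_option backward.isDefEq.respectTransparency false
set_option linter.style.haveILetI false

universe u

open CategoryTheory CategoryTheory.Limits AlgebraicGeometry TopologicalSpace
open Groth.Agent.SchDesc Groth.Agent.PicLib Groth.Agent.AbDualLib
open Groth.Agent.AmpleLib (isInvertible_pullback)

noncomputable section

namespace Groth.Agent.InvDescLib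

/-- A covering in the fppf precoverage contains a small subfamily with fppf coproduct. -/
theorem exists_small_cover {T : Scheme.{u}} {R : Presieve T} (hR : R ∈ Scheme.fppfPrecoverage T) :
    ∃ (ι : Type u) (W : ι → Scheme.{u}) (v : ∀ i, W i ⟶ T), (∀ i, R (v i)) ∧
      Flat (Sigma.desc v) ∧ LocallyOfFinitePresentation (Sigma.desc v) ∧ Surjective (Sigma.desc v) := by
  obtain ⟨h₁, h₂⟩ := hR
  have hs : ∀ t : T, ∃ (W : Scheme.{u}) (g : W ⟶ T), R g ∧ t ∈ Set.range g := fun t => by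
    obtain ⟨_, _, ⟨hg⟩, ht⟩ := h₁ t
    exact ⟨_, _, hg, ht⟩
  choose W v hv hmem using hs
  refine ⟨T, W, v, hv, IsZariskiLocalAtSource.sigmaDesc fun t => (h₂ (hv t)).1,
    IsZariskiLocalAtSource.sigmaDesc fun t => (h₂ (hv t)).2, ⟨fun t => ?_⟩⟩
  obtain ⟨y, hy⟩ := hmem t
  exact ⟨Sigma.ι W t y, by rw [← Scheme.Hom.comp_apply, Sigma.ι_desc]; exact hy⟩

theorem isDisjointUnion_sigma {ι : Type u} (W : ι → Scheme.{u}) : IsDisjointUnion (fun i => Sigma.ι W i) := by
  refine ⟨fun i k a b h => (Sigma.mk.inj ((sigmaι_eq_iff _ _ _ _ _).mp h)).1, fun y => ?_⟩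
  obtain ⟨⟨i, v⟩, hv⟩ := (sigmaMk W).surjective y
  exact ⟨i, v, (sigmaMk_mk _ _ _).symm.trans hv⟩

variable {X S : Scheme.{u}} {f : X ⟶ S}

theorem pull_XTmap_XTmap {T T' T'' : Over S} (g : T' ⟶ T) (k : T'' ⟶ T') {l : T'' ⟶ T} (e : k ≫ g = l)
    (a : Pic (PicF.XT f T)) : pull (PicF.XTmap f k) (pull (PicF.XTmap f g) a) = pull (PicF.XTmap f l) a := by
  subst e
  rw [← pull_comp, XTmap_comp (X := Over.mk f)]

theorem isPullback_map {T T' : Over S} (g : T' ⟶ T) :
    IsPullback (PicF.XTmap f g) (PicF.XTproj f T') (PicF.XTproj f T) g.left :=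
  isPullback_XTmap (X := Over.mk f) f g

variable {σ : S ⟶ X} {hσ : σ ≫ f = 𝟙 S}

theorem pull_secT_XTmap {T T' : Over S} (g : T' ⟶ T) (a : Pic (PicF.XT f T)) :
    pull (PicF.secT f σ hσ T') (pull (PicF.XTmap f g) a) = pull g.left (pull (PicF.secT f σ hσ T) a) :=
  pull_pull_of_eq (secT_XTmap σ hσ g) a

theorem rigid_XTmap {T T' : Over S} (g : T' ⟶ T) {a : Pic (PicF.XT f T)}
    (h : pull (PicF.secT f σ hσ T) a = 1) : pull (PicF.secT f σ hσ T') (pull (PicF.XTmap f g) a) = 1 := by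
  rw [pull_secT_XTmap, h, map_one]

theorem isInvertibleCl_toCl {Y : Scheme.{u}} (a : Pic Y) : PicF.IsInvertibleCl (toCl a) := by
  obtain ⟨L, hL, rfl⟩ := exists_cls a
  exact ⟨L, rfl, hL⟩

theorem exists_toCl_eq {Y : Scheme.{u}} {c : PicF.Cl Y} (h : PicF.IsInvertibleCl c) : ∃ a, toCl a = c := by
  obtain ⟨L, rfl, hL⟩ := h
  exact ⟨cls hL, rfl⟩

/-- The maps from the pieces of the coproduct. -/
abbrev pieceHom {T : Over S} {ι : Type u} {W : ι → Scheme.{u}} (v : ∀ i, W i ⟶ T.left) (i : ι) :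
    AbDual.ovr T (v i) ⟶ AbDual.ovr T (Sigma.desc v) :=
  Over.homMk (Sigma.ι W i) (by simp)

theorem pieceHom_comp {T : Over S} {ι : Type u} {W : ι → Scheme.{u}} (v : ∀ i, W i ⟶ T.left) (i : ι) :
    pieceHom v i ≫ AbDual.ovrHom T (Sigma.desc v) = AbDual.ovrHom T (v i) :=
  Over.OverMorphism.ext (Sigma.ι_desc v i)

theorem isOpenImmersion_piece {T : Over S} {ι : Type u} {W : ι → Scheme.{u}} (v : ∀ i, W i ⟶ T.left) (i : ι) :
    IsOpenImmersion (PicF.XTmap f (pieceHom v i)) :=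
  MorphismProperty.of_isPullback (P := @IsOpenImmersion) (isPullback_map (pieceHom v i)).flip
    (inferInstanceAs (IsOpenImmersion (Sigma.ι W i)))

theorem isDisjointUnion_pieces {T : Over S} {ι : Type u} {W : ι → Scheme.{u}} (v : ∀ i, W i ⟶ T.left) :
    IsDisjointUnion (fun i => PicF.XTmap f (pieceHom v i)) := by
  haveI := fun i => isOpenImmersion_piece (f := f) v i
  exact isDisjointUnion_of_isPullback (PicF.XTproj f (AbDual.ovr T (Sigma.desc v))) fun i => isPullback_map (pieceHom v i)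

theorem eq_one_of_pull_XTmap (ha : UnivConst f) {T : Over S} {U : Scheme.{u}} (u : U ⟶ T.left) [IsFpqc u]
    {d : Pic (PicF.XT f T)} (hd : pull (PicF.secT f σ hσ T) d = 1)
    (hd' : pull (PicF.XTmap f (AbDual.ovrHom T u)) d = 1) : d = 1 := by
  refine eq_one_of_pull_eq_one (univConst_XTproj ha T) _ (secT_proj σ hσ T) u hd ?_
  have he : (pullbackLeftPullbackSndIso f T.hom u).hom ≫ PicF.XTmap f (AbDual.ovrHom T u) =
      pullback.fst (PicF.XTproj f T) u := by
    apply pullback.hom_ext <;> simp [PicF.XTmap, PicF.XTproj, pullback.condition]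
  rw [← he, pull_comp]
  exact (congrArg _ hd').trans (map_one _)

variable {P : Over S} {φ : ∀ T : Over S, PicF.Cl (PicF.XT f T) → (T ⟶ P)}

theorem phi_natural (hP : AbDual.IsRelPicK Scheme.fppfPrecoverage f P φ) {T T' : Over S} (g : T' ⟶ T)
    (a : Pic (PicF.XT f T)) : φ T' (toCl (pull (PicF.XTmap f g) a)) = g ≫ φ T (toCl a) := by
  rw [toCl_pull]
  exact hP.natural T T' g _ (isInvertibleCl_toCl a)

theorem phi_mul_base (hP : AbDual.IsRelPicK Scheme.fppfPrecoverage f P φ) {T : Over S} (a : Pic (PicF.XT f T))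
    (N : Pic T.left) : φ T (toCl (a * pull (PicF.XTproj f T) N)) = φ T (toCl a) := by
  obtain ⟨M, hM, rfl⟩ := exists_cls N
  choose W s hW hs using fun x : T.left => ParaFLib.exists_gen_nhd hM x
  let 𝒰 := T.left.openCoverOfIsOpenCover W (eq_top_iff.2 fun x _ => Opens.mem_iSup.2 ⟨x, hW x⟩)
  refine hom_ext_cover (Scheme.zariskiPrecoverage_le_fppfPrecoverage _ 𝒰.mem₀) _ _ ?_
  rintro U u ⟨i⟩
  rw [← phi_natural hP, ← phi_natural hP]
  congr 2
  rw [map_mul, ← pull_comp, (isPullback_map _).w, pull_comp]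
  have h1 : pull (AbDual.ovrHom T (𝒰.f i)).left (cls hM) = 1 := by
    rw [pull_cls, eq_one_iff_triv]
    exact ⟨_, CubeLib.gen_pullMap (W i).ι hM (hs i) (fun z _ => z.2)⟩
  rw [h1, map_one, _root_.mul_one]

theorem eq_of_phi_eq (ha : UnivConst f) (hP : AbDual.IsRelPicK Scheme.fppfPrecoverage f P φ) {T : Over S}
    {a a' : Pic (PicF.XT f T)} (h : pull (PicF.secT f σ hσ T) a = 1) (h' : pull (PicF.secT f σ hσ T) a' = 1)
    (e : φ T (toCl a) = φ T (toCl a')) : a = a' := by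
  obtain ⟨R, hR, hRe⟩ := hP.locallyInjective T _ _ (isInvertibleCl_toCl a) (isInvertibleCl_toCl a') e
  obtain ⟨ι, W, v, hv, h₁, h₂, h₃⟩ := exists_small_cover hR
  haveI := IsFpqc.of_locallyOfFinitePresentation (Sigma.desc v)
  haveI := fun i => isOpenImmersion_piece (f := f) v i
  refine div_eq_one.1 (eq_one_of_pull_XTmap (hσ := hσ) ha (Sigma.desc v) ?_ ?_)
  · rw [map_div, h, h', div_self']
  · refine (isDisjointUnion_pieces v).eq_one fun i => ?_
    rw [pull_XTmap_XTmap _ _ (pieceHom_comp v i), map_div,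
      toCl_injective ((toCl_pull _ _).trans ((hRe (v i) (hv i)).trans (toCl_pull _ _).symm)), div_self']

theorem exists_phi_eq (ha : UnivConst f) (hP : AbDual.IsRelPicK Scheme.fppfPrecoverage f P φ) (T : Over S)
    (g : T ⟶ P) : ∃ b : Pic (PicF.XT f T), pull (PicF.secT f σ hσ T) b = 1 ∧ φ T (toCl b) = g := by
  obtain ⟨R, hR, hRs⟩ := hP.locallySurjective T g
  obtain ⟨ι, W, v, hv, h₁, h₂, h₃⟩ := exists_small_cover hR
  have hex : ∀ i, ∃ a : Pic (PicF.XT f (AbDual.ovr T (v i))),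
      pull (PicF.secT f σ hσ _) a = 1 ∧ φ _ (toCl a) = AbDual.ovrHom T (v i) ≫ g := fun i => by
    obtain ⟨c, hc, hφc⟩ := hRs (v i) (hv i)
    obtain ⟨a, rfl⟩ := exists_toCl_eq hc
    refine ⟨a * pull (PicF.XTproj f _) (pull (PicF.secT f σ hσ _) a)⁻¹, ?_, ?_⟩
    · rw [map_mul, pull_pull_of_id (secT_proj σ hσ _), mul_inv_cancel]
    · rw [phi_mul_base hP, hφc]
  choose a ha₁ ha₂ using hex
  haveI := fun i => isOpenImmersion_piece (f := f) v i
  obtain ⟨A, hA⟩ := (isDisjointUnion_pieces (f := f) v).exists_pic a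
  let U := AbDual.ovr T (Sigma.desc v)
  have hA₁ : pull (PicF.secT f σ hσ U) A = 1 := (isDisjointUnion_sigma W).eq_one fun i => by
    have h := pull_secT_XTmap (σ := σ) (hσ := hσ) (pieceHom v i) A
    rw [hA i, ha₁ i] at h
    exact h.symm
  have hA₂ : φ U (toCl A) = AbDual.ovrHom T (Sigma.desc v) ≫ g := by
    apply Over.OverMorphism.ext
    refine Sigma.hom_ext _ _ fun i => ?_
    have h := phi_natural hP (pieceHom v i) A
    rw [hA i, ha₂ i, ← pieceHom_comp v i, Category.assoc] at h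
    exact (congrArg Over.Hom.left h).symm
  let u := Sigma.desc v
  let k₁ := AbDual.ovrHom U (pullback.fst u u)
  let k₂ : AbDual.ovr U (pullback.fst u u) ⟶ U :=
    Over.homMk (pullback.snd u u) (pullback.condition_assoc T.hom).symm
  have hk : k₁ ≫ AbDual.ovrHom T u = k₂ ≫ AbDual.ovrHom T u := Over.OverMorphism.ext pullback.condition
  have hglue : pull (PicF.XTmap f k₁) A = pull (PicF.XTmap f k₂) A :=
    eq_of_phi_eq ha hP (rigid_XTmap _ hA₁) (rigid_XTmap _ hA₁) (by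
      rw [phi_natural hP, phi_natural hP, hA₂, reassoc_of% hk])
  obtain ⟨b, ⟨hb, hb'⟩, -⟩ := existsUnique_rig σ hσ ha T u A hA₁ hglue
  have hbU : AbDual.ovrHom T u ≫ φ T (toCl b) = AbDual.ovrHom T u ≫ g := by
    rw [← phi_natural hP, hb', hA₂]
  haveI : IsFpqc u := IsFpqc.of_locallyOfFinitePresentation u
  exact ⟨b, hb, Over.OverMorphism.ext ((cancel_epi u).1 (congrArg Over.Hom.left hbU))⟩

end Groth.Agent.InvDescLib
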