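import Groth.Agent.InvDescLib.Units
import Groth.Agent.AmpleEmb.ComposeRel
import Groth.Agent.AmpleLib.Pullback
import Groth.Agent.CubeLib.Small

/-!
# Frames of invertible modules descend along fpqc coverings
-/

set_option autoImplicit false
set_option backward.isDefEq.respectTransparency false
set_option linter.style.haveILetI false

universe u

open CategoryTheory CategoryTheory.Limits AlgebraicGeometry TopologicalSpace
open Groth.Agent.SchDesc Groth.Agent.ParaFLib Groth.Agent.PullbackMod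

noncomputable section

namespace Groth.Agent.InvDescLib

theorem ev_appLE {T P X : Scheme.{u}} (a : T ⟶ P) (p : P ⟶ X) {U : X.Opens} {V : P.Opens} (e : V ≤ p ⁻¹ᵁ U)
    (ea : ∀ t, a t ∈ V) (r : Γ(X, U)) : ev a ea (p.appLE U V e r) = ev (a ≫ p) (fun t => e (ea t)) r := by
  show a.appLE _ _ _ (p.appLE _ _ e r) = _
  rw [← ConcreteCategory.comp_apply, Scheme.Hom.appLE_comp_appLE]
  rfl

theorem eq_of_forall_restrict {T : Scheme.{u}} {ι : Type u} (O : ι → T.Opens) (hO : iSup O = ⊤) {z z' : Γ(T, ⊤)}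
    (h : ∀ i, (O i).ι.appTop z = (O i).ι.appTop z') : z = z' := by
  refine toA1_injective (Scheme.Cover.hom_ext (T.openCoverOfIsOpenCover O hO) _ _ fun i => ?_)
  show (O i).ι ≫ toA1 z = (O i).ι ≫ toA1 z'
  rw [comp_toA1, comp_toA1, h i]

theorem gen_inj {X : Scheme.{u}} {M : X.Modules} {W : X.Opens} {e : Γ(M, W)} (he : Gen W e) {a b : Γ(X, W)}
    (h : a • e = b • e) : a = b := by
  apply (he W le_rfl).1
  simpa only [ParaFLib.res_self] using h

variable {X X' : Scheme.{u}} (g : X' ⟶ X) {L : X.Modules}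

theorem pullMap_smul_res {W V : X.Opens} (h : V ≤ W) {t : Γ(L, W)} {t' : Γ(L, V)} {c : Γ(X, V)}
    (hc : c • L.presheaf.map (homOfLE h).op t = t') :
    g.app V c • ((Scheme.Modules.pullback g).obj L).presheaf.map (homOfLE (g.preimage_mono h)).op (pullMap g L le_rfl t) =
      pullMap g L le_rfl t' := by
  rw [pullMap_res g L le_rfl h (g.preimage_mono h) le_rfl t, ← hc, pullMap_smul, Scheme.Hom.app_eq_appLE]

/-- `r` is the coefficient of `σ` along the inverse image of the local section `t`. -/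
def IsCoef {W O : X.Opens} (hWO : W ≤ O) (t : Γ(L, W)) (σ : Γ((Scheme.Modules.pullback g).obj L, g ⁻¹ᵁ O))
    (r : Γ(X', g ⁻¹ᵁ W)) : Prop :=
  r • pullMap g L le_rfl t = ((Scheme.Modules.pullback g).obj L).presheaf.map (homOfLE (g.preimage_mono hWO)).op σ

theorem exists_coef (hL : PicF.IsInvertible L) {W O : X.Opens} (hWO : W ≤ O) {t : Γ(L, W)} (ht : Gen W t)
    {σ : Γ((Scheme.Modules.pullback g).obj L, g ⁻¹ᵁ O)} (hσ : Gen (g ⁻¹ᵁ O) σ) :
    ∃ r, IsCoef g hWO t σ r ∧ IsUnit r := by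
  have hg := AmpleEmb.gen_pullMap g hL ht
  obtain ⟨c, hc, hc'⟩ := (hσ.res (g.preimage_mono hWO)).exists_unit hg
  exact ⟨c, hc', hc⟩

/-- Change of the local section. -/
theorem coef_change (hL : PicF.IsInvertible L) {W W' O : X.Opens} (hWO : W ≤ O) (hWO' : W' ≤ O) {t : Γ(L, W)}
    (ht : Gen W t) {t' : Γ(L, W')} (ht' : Gen W' t') {σ : Γ((Scheme.Modules.pullback g).obj L, g ⁻¹ᵁ O)}
    {r : Γ(X', g ⁻¹ᵁ W)} (hr : IsCoef g hWO t σ r) {r' : Γ(X', g ⁻¹ᵁ W')} (hr' : IsCoef g hWO' t' σ r') :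
    ∃ c : Γ(X, W ⊓ W'), X'.presheaf.map (homOfLE (g.preimage_mono (inf_le_left : W ⊓ W' ≤ W))).op r =
      X'.presheaf.map (homOfLE (g.preimage_mono (inf_le_right : W ⊓ W' ≤ W'))).op r' * g.app (W ⊓ W') c := by
  let N := (Scheme.Modules.pullback g).obj L
  have h1 : W ⊓ W' ≤ W := inf_le_left
  have h2 : W ⊓ W' ≤ W' := inf_le_right
  obtain ⟨c, -, hc⟩ := (ht'.res h2).exists_unit (ht.res h1)
  refine ⟨c, gen_inj ((AmpleEmb.gen_pullMap g hL ht).res (g.preimage_mono h1)) ?_⟩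
  rw [mul_smul, pullMap_smul_res g h1 hc, ← pullMap_res g L le_rfl h2 (g.preimage_mono h2) le_rfl t']
  rw [← N.map_smul, ← N.map_smul, hr, hr']
  exact (ParaFLib.res_res _ _ _).trans (ParaFLib.res_res _ _ _).symm

theorem ev_coef_change {W W' : X.Opens} {r : Γ(X', g ⁻¹ᵁ W)} {r' : Γ(X', g ⁻¹ᵁ W')} {c : Γ(X, W ⊓ W')}
    (hc : X'.presheaf.map (homOfLE (g.preimage_mono (inf_le_left : W ⊓ W' ≤ W))).op r =
      X'.presheaf.map (homOfLE (g.preimage_mono (inf_le_right : W ⊓ W' ≤ W'))).op r' * g.app (W ⊓ W') c)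
    {T : Scheme.{u}} (a : T ⟶ X') (ea : ∀ t, a t ∈ g ⁻¹ᵁ W) (ea' : ∀ t, a t ∈ g ⁻¹ᵁ W') :
    ev a ea r = ev a ea' r' * ev (a ≫ g) (fun t => (⟨ea t, ea' t⟩ : (a ≫ g) t ∈ W ⊓ W')) c := by
  have := congrArg (ev a (V := g ⁻¹ᵁ (W ⊓ W')) fun t => ⟨ea t, ea' t⟩) hc
  rw [map_mul, ev_res, ev_res] at this
  exact this.trans (congrArg _ (ev_app a g (W := W ⊓ W') (fun t => ⟨ea t, ea' t⟩)
    (fun t => (⟨ea t, ea' t⟩ : (a ≫ g) t ∈ W ⊓ W')) c))

/-- The function comparing the two inverse images of a global frame. -/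
theorem exists_ratio (hL : PicF.IsInvertible L) {σ : Γ((Scheme.Modules.pullback g).obj L, g ⁻¹ᵁ ⊤)}
    (hσ : Gen (g ⁻¹ᵁ ⊤) σ) : ∃ v : Γ(pullback g g, ⊤), IsUnit v ∧ Cocycle g v ∧
      ∀ (W : X.Opens) (t : Γ(L, W)) (_ : Gen W t) (r : Γ(X', g ⁻¹ᵁ W)) (_ : IsCoef g le_top t σ r)
        (T : Scheme.{u}) (a b : T ⟶ X') (ea : ∀ s, a s ∈ g ⁻¹ᵁ W) (eb : ∀ s, b s ∈ g ⁻¹ᵁ W) (w : a ≫ g = b ≫ g),
        val2 g v a b w * ev a ea r = ev b eb r := by
  choose W t hx ht using fun x => exists_gen_nhd hL x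
  choose r hr hru using fun x => exists_coef g hL (le_top : W x ≤ ⊤) (ht x) hσ
  let p₁ := pullback.fst g g
  let p₂ := pullback.snd g g
  let V : X → (pullback g g).Opens := fun x => p₁ ⁻¹ᵁ (g ⁻¹ᵁ W x)
  have hV₂ : ∀ x, V x ≤ p₂ ⁻¹ᵁ (g ⁻¹ᵁ W x) := fun x z hz => by
    show g (p₂ z) ∈ W x
    rw [← Scheme.Hom.comp_apply, ← pullback.condition, Scheme.Hom.comp_apply]
    exact hz
  let A : ∀ x, Γ(pullback g g, V x) := fun x => p₁.appLE (g ⁻¹ᵁ W x) (V x) le_rfl (r x)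
  have hA : ∀ x, IsUnit (A x) := fun x => (hru x).map _
  let B : ∀ x, Γ(pullback g g, V x) := fun x => p₂.appLE (g ⁻¹ᵁ W x) (V x) (hV₂ x) (r x)
  let s : ∀ x, Γ(pullback g g, V x) := fun x => B x * ↑(hA x).unit⁻¹
  have hsA : ∀ x, s x * A x = B x := fun x => by
    simp only [s, mul_assoc, IsUnit.val_inv_mul, _root_.mul_one]
  have key : ∀ (x : X) {T : Scheme.{u}} (a : T ⟶ pullback g g) (ea : ∀ z, a z ∈ V x),
      ev a ea (s x) * ev (a ≫ p₁) (fun z => ea z) (r x) = ev (a ≫ p₂) (fun z => hV₂ x (ea z)) (r x) := by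
    intro x T a ea
    have := congrArg (ev a ea) (hsA x)
    rw [map_mul, ev_appLE, ev_appLE] at this
    exact this
  have agree : ∀ (W' : X.Opens) (t' : Γ(L, W')) (_ : Gen W' t') (r' : Γ(X', g ⁻¹ᵁ W')) (_ : IsCoef g le_top t' σ r')
      (x : X) {T : Scheme.{u}} (a b : T ⟶ X') (w : a ≫ g = b ≫ g) (ea : ∀ z, a z ∈ g ⁻¹ᵁ W x) (eb : ∀ z, b z ∈ g ⁻¹ᵁ W x)
      (ea' : ∀ z, a z ∈ g ⁻¹ᵁ W') (eb' : ∀ z, b z ∈ g ⁻¹ᵁ W') (q : Γ(T, ⊤)),
      q * ev a ea (r x) = ev b eb (r x) ↔ q * ev a ea' r' = ev b eb' r' := by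
    intro W' t' ht' r' hr' x T a b w ea eb ea' eb' q
    obtain ⟨c, hc⟩ := coef_change g hL le_top le_top (ht x) ht' (hr x) hr'
    have ha := ev_coef_change g hc a ea ea'
    have hb := ev_coef_change g hc b eb eb'
    rw [ha, hb, ev_congr w (fun z => (⟨ea z, ea' z⟩ : (a ≫ g) z ∈ W x ⊓ W'))
      (fun z => (⟨eb z, eb' z⟩ : (b ≫ g) z ∈ W x ⊓ W')) c, ← mul_assoc]
    have hu : IsUnit (ev b eb' r' * ev (b ≫ g) (fun z => (⟨eb z, eb' z⟩ : (b ≫ g) z ∈ W x ⊓ W')) c) :=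
      hb ▸ (hru x).map _
    exact (isUnit_of_mul_isUnit_right hu).mul_left_inj
  have hcov : (⊤ : (pullback g g).Opens) ≤ iSup V := fun z _ => Opens.mem_iSup.2 ⟨g (p₁ z), hx (g (p₁ z))⟩
  obtain ⟨v, hv⟩ := CubeLib.exists_glue (fun x => le_top) hcov s fun x y => by
    refine ev_injective fun T a e => ?_
    rw [CubeLib.rs, CubeLib.rs, ev_res, ev_res]
    have ex : ∀ z, a z ∈ V x := fun z => (e z).1
    have ey : ∀ z, a z ∈ V y := fun z => (e z).2
    have hw : (a ≫ p₁) ≫ g = (a ≫ p₂) ≫ g := by rw [Category.assoc, pullback.condition, Category.assoc]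
    have h1 := (agree (W y) (t y) (ht y) (r y) (hr y) x (a ≫ p₁) (a ≫ p₂) hw (fun z => ex z)
      (fun z => hV₂ x (ex z)) (fun z => ey z) (fun z => hV₂ y (ey z)) _).1 (key x a ex)
    exact ((hru y).map _).mul_right_cancel (h1.trans (key y a ey).symm)
  have hev : ∀ (x : X) {T : Scheme.{u}} (a b : T ⟶ X') (w : a ≫ g = b ≫ g) (ea : ∀ z, a z ∈ g ⁻¹ᵁ W x)
      (eb : ∀ z, b z ∈ g ⁻¹ᵁ W x), val2 g v a b w * ev a ea (r x) = ev b eb (r x) := by
    intro x T a b w ea eb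
    let l := pullback.lift a b w
    have el : ∀ z, l z ∈ V x := fun z => by
      show g (p₁ (l z)) ∈ W x
      rw [← Scheme.Hom.comp_apply l p₁, pullback.lift_fst]
      exact ea z
    have h1 := key x l el
    rw [← hv x, CubeLib.rs, ev_res, ev_top] at h1
    rw [ev_congr (pullback.lift_fst a b w) _ ea, ev_congr (pullback.lift_snd a b w) _ eb] at h1
    exact h1
  have hcover : ∀ {T : Scheme.{u}} (a : T ⟶ X'), iSup (fun x => (a ≫ g) ⁻¹ᵁ W x) = ⊤ := fun a =>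
    eq_top_iff.2 fun z _ => Opens.mem_iSup.2 ⟨(a ≫ g) z, hx ((a ≫ g) z)⟩
  refine ⟨v, ?_, ?_, ?_⟩
  · refine RingedSpace.isUnit_of_isUnit_germ _ _ v fun z _ => ?_
    have h1 : z ∈ V (g (p₁ z)) := hx (g (p₁ z))
    have hs : IsUnit (s (g (p₁ z))) := by
      refine IsUnit.mul ((hru _).map _) ⟨_, rfl⟩
    have h2 := hs.map ((pullback g g).presheaf.germ _ z h1).hom
    rw [← hv, CubeLib.rs] at h2
    erw [TopCat.Presheaf.germ_res_apply] at h2
    exact h2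
  · intro T a b c w₁ w₂
    refine eq_of_forall_restrict _ (hcover a) fun x => ?_
    let O : T.Opens := (a ≫ g) ⁻¹ᵁ W x
    have ea : ∀ z, (O.ι ≫ a) z ∈ g ⁻¹ᵁ W x := fun z => z.2
    have eb : ∀ z, (O.ι ≫ b) z ∈ g ⁻¹ᵁ W x := fun z => by
      show (b ≫ g) (O.ι z) ∈ W x
      rw [← w₁]; exact z.2
    have ec : ∀ z, (O.ι ≫ c) z ∈ g ⁻¹ᵁ W x := fun z => by
      show (c ≫ g) (O.ι z) ∈ W x
      rw [← w₂, ← w₁]; exact z.2
    have w₁' : (O.ι ≫ a) ≫ g = (O.ι ≫ b) ≫ g := by rw [Category.assoc, w₁, Category.assoc]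
    have w₂' : (O.ι ≫ b) ≫ g = (O.ι ≫ c) ≫ g := by rw [Category.assoc, w₂, Category.assoc]
    rw [map_mul, val2_comp g v _ a b w₁ _ _ rfl rfl w₁', val2_comp g v _ b c w₂ _ _ rfl rfl w₂',
      val2_comp g v _ a c (w₁.trans w₂) _ _ rfl rfl (w₁'.trans w₂')]
    refine ((hru x).map (ev (O.ι ≫ a) ea)).mul_right_cancel ?_
    rw [_root_.mul_comm (val2 g v _ _ w₁'), mul_assoc, hev x _ _ w₁' ea eb, hev x _ _ w₂' eb ec,
      hev x _ _ (w₁'.trans w₂') ea ec]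
  · intro W' t' ht' r' hr' T a b ea eb w
    refine eq_of_forall_restrict _ (hcover a) fun x => ?_
    let O : T.Opens := (a ≫ g) ⁻¹ᵁ W x
    have ea₀ : ∀ z, (O.ι ≫ a) z ∈ g ⁻¹ᵁ W x := fun z => z.2
    have eb₀ : ∀ z, (O.ι ≫ b) z ∈ g ⁻¹ᵁ W x := fun z => by
      show (b ≫ g) (O.ι z) ∈ W x
      rw [← w]; exact z.2
    have w' : (O.ι ≫ a) ≫ g = (O.ι ≫ b) ≫ g := by rw [Category.assoc, w, Category.assoc]
    rw [map_mul, val2_comp g v _ a b w _ _ rfl rfl w', ← ev_comp O.ι a ea (fun z => ea _), ← ev_comp O.ι b eb (fun z => eb _)]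
    exact (agree W' t' ht' r' hr' x _ _ w' ea₀ eb₀ _ _ _).1 (hev x _ _ w' ea₀ eb₀)

variable [IsFpqc g]

/-- A frame with equal inverse images descends. -/
theorem exists_gen_of_compat (hL : PicF.IsInvertible L) {O : X.Opens}
    {σ : Γ((Scheme.Modules.pullback g).obj L, g ⁻¹ᵁ O)} (hσ : Gen (g ⁻¹ᵁ O) σ)
    (h : ∀ (W : X.Opens) (hWO : W ≤ O) (t : Γ(L, W)) (_ : Gen W t) (r : Γ(X', g ⁻¹ᵁ W)) (_ : IsCoef g hWO t σ r)
      (T : Scheme.{u}) (a b : T ⟶ X') (ea : ∀ s, a s ∈ g ⁻¹ᵁ W) (eb : ∀ s, b s ∈ g ⁻¹ᵁ W) (_ : a ≫ g = b ≫ g),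
      ev a ea r = ev b eb r) :
    ∃ s : Γ(L, O), Gen O s := by
  choose W t hx ht using fun x => exists_gen_nhd hL x
  let W' : X → X.Opens := fun x => W x ⊓ O
  let t' : ∀ x, Γ(L, W' x) := fun x => L.presheaf.map (homOfLE inf_le_left).op (t x)
  have ht' : ∀ x, Gen (W' x) (t' x) := fun x => (ht x).res inf_le_left
  choose r hr hru using fun x => exists_coef g hL (inf_le_right : W' x ≤ O) (ht' x) hσ
  choose a ha using fun x => exists_fun g (r x) (h (W' x) inf_le_right (t' x) (ht' x) (r x) (hr x))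
  have hau : ∀ x, IsUnit (a x) := fun x => by
    refine RingedSpace.isUnit_of_isUnit_germ _ _ (a x) fun y hy => ?_
    obtain ⟨z, rfl⟩ := g.surjective y
    have h1 : z ∈ X'.basicOpen (g.app (W' x) (a x)) := by
      rw [ha x]
      exact (X'.toRingedSpace.mem_basicOpen (r x) z hy).2 ((hru x).map _)
    rw [← Scheme.preimage_basicOpen] at h1
    exact (X.toRingedSpace.mem_basicOpen (a x) (g z) hy).1 h1
  let F : TopCat.Sheaf Ab.{u} X.carrier := ⟨L.presheaf, L.isSheaf⟩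
  let sf : ∀ x, Γ(L, W' x) := fun x => a x • t' x
  have hle : ∀ x, W' x ≤ O := fun x => inf_le_right
  have hcov : O ≤ iSup W' := fun z hz => Opens.mem_iSup.2 ⟨z, hx z, hz⟩
  have hsf : ∀ x, pullMap g L le_rfl (sf x) =
      ((Scheme.Modules.pullback g).obj L).presheaf.map (homOfLE (g.preimage_mono (hle x))).op σ := fun x => by
    rw [← hr x, ← ha x, pullMap_smul, Scheme.Hom.app_eq_appLE]
  obtain ⟨s, hs, -⟩ := F.existsUnique_gluing' W' O (fun x => homOfLE (hle x)) hcov sf fun x y => by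
    show L.presheaf.map (homOfLE (inf_le_left : W' x ⊓ W' y ≤ W' x)).op (sf x) =
      L.presheaf.map (homOfLE (inf_le_right : W' x ⊓ W' y ≤ W' y)).op (sf y)
    have h1 : W' x ⊓ W' y ≤ W' x := inf_le_left
    have h2 : W' x ⊓ W' y ≤ W' y := inf_le_right
    obtain ⟨c, -, hc⟩ := (((ht' x).smul (hau x)).res h1).exists_unit ((ht' x).res h1)
    obtain ⟨d, hd⟩ := ((ht' x).res h1 _ le_rfl).2 (L.presheaf.map (homOfLE h2).op (sf y))
    simp only [ParaFLib.res_self] at hd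
    rw [← hd]
    show L.presheaf.map (homOfLE h1).op (sf x) = d • L.presheaf.map (homOfLE h1).op (t' x)
    rw [← hc]
    congr 1
    apply app_injective g
    apply gen_inj ((AmpleEmb.gen_pullMap g hL (ht' x)).res (g.preimage_mono h1))
    rw [pullMap_smul_res g h1 hc, pullMap_smul_res g h1 hd,
      ← pullMap_res g L le_rfl h1 (g.preimage_mono h1) le_rfl (sf x),
      ← pullMap_res g L le_rfl h2 (g.preimage_mono h2) le_rfl (sf y), hsf, hsf]
    exact (ParaFLib.res_res _ _ _).trans (ParaFLib.res_res _ _ _).symm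
  refine ⟨s, gen_of_cover W' hle hcov fun x => ?_⟩
  rw [show L.presheaf.map (homOfLE (hle x)).op s = sf x from hs x]
  exact (ht' x).smul (hau x)

end Groth.Agent.InvDescLib
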