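import Groth.Agent.InvDescLib.Sections
import Groth.Agent.CubeLib.Sec

/-!
# Frames, their ratios along an isomorphism of the two inverse images, and gluing of functions
-/

set_option autoImplicit false
set_option backward.isDefEq.respectTransparency false
set_option linter.style.haveILetI false

universe u

open CategoryTheory CategoryTheory.Limits AlgebraicGeometry TopologicalSpace
open Groth.Agent.SchDesc Groth.Agent.ParaFLib Groth.Agent.PullbackMod

noncomputable section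

namespace Groth.Agent.InvDescLib

/-- Functions glue. -/
theorem exists_glue_points {T : Scheme.{u}} {ι : Type u} (O : ι → T.Opens) (hO : iSup O = ⊤)
    (z : ∀ i, Γ((O i : Scheme.{u}), ⊤))
    (h : ∀ i j (T' : Scheme.{u}) (p : T' ⟶ O i) (q : T' ⟶ O j), p ≫ (O i).ι = q ≫ (O j).ι →
      p.appTop (z i) = q.appTop (z j)) :
    ∃ Z : Γ(T, ⊤), ∀ i, (O i).ι.appTop Z = z i := by
  let 𝒰 := T.openCoverOfIsOpenCover O hO
  let F := 𝒰.glueMorphisms (fun i => toA1 (z i)) fun i j => by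
    show pullback.fst (O i).ι (O j).ι ≫ toA1 (z i) = pullback.snd (O i).ι (O j).ι ≫ toA1 (z j)
    rw [comp_toA1, comp_toA1]
    exact congrArg toA1 (h i j _ _ _ pullback.condition)
  refine ⟨F.appTop ((Scheme.ΓSpecIso (CommRingCat.of (Polynomial (ULift.{u} ℤ)))).inv Polynomial.X), fun i => ?_⟩
  have h1 : (O i).ι ≫ F = toA1 (z i) := 𝒰.ι_glueMorphisms _ _ i
  rw [← CommRingCat.comp_apply, ← Scheme.Hom.comp_appTop, h1, appTop_toA1]

/-- A local frame. -/
structure Frame {X : Scheme.{u}} (L : X.Modules) where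
  /-- The open. -/
  O : X.Opens
  /-- The section. -/
  t : Γ(L, O)
  gen : Gen O t

variable {X X' : Scheme.{u}} (g : X' ⟶ X) {L : X'.Modules}

/-- `R` is the ratio of the frames `F`, `G` along `θ`. -/
def IsRatio (θ : (Scheme.Modules.pullback (pullback.fst g g)).obj L ≅ (Scheme.Modules.pullback (pullback.snd g g)).obj L)
    (F G : Frame L) (R : Γ(pullback g g, pullback.fst g g ⁻¹ᵁ F.O ⊓ pullback.snd g g ⁻¹ᵁ G.O)) : Prop :=
  θ.hom.app _ (pullMap (pullback.fst g g) L inf_le_left F.t) = R • pullMap (pullback.snd g g) L inf_le_right G.t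

theorem gen_of_iso {Y : Scheme.{u}} {M N : Y.Modules} (φ : M ≅ N) {W : Y.Opens} {s : Γ(M, W)} (hs : Gen W s) :
    Gen W (φ.hom.app W s) := fun O hO => by
  have e : ∀ r : Γ(Y, O), r • N.presheaf.map (homOfLE hO).op (φ.hom.app W s) =
      φ.hom.app O (r • M.presheaf.map (homOfLE hO).op s) := fun r => by
    rw [Scheme.Modules.Hom.app_smul]
    congr 1
    exact (congr($(φ.hom.mapPresheaf.naturality (homOfLE hO).op) s)).symm
  have hb : Function.Bijective (φ.hom.app O) := Function.bijective_iff_has_inverse.2 ⟨φ.inv.app O,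
    fun x => congr($(φ.hom_inv_id).app O x), fun x => congr($(φ.inv_hom_id).app O x)⟩
  rw [show (fun r : Γ(Y, O) => r • N.presheaf.map (homOfLE hO).op (φ.hom.app W s)) =
    φ.hom.app O ∘ fun r : Γ(Y, O) => r • M.presheaf.map (homOfLE hO).op s from funext e]
  exact hb.comp (hs O hO)

theorem exists_isRatio (hL : PicF.IsInvertible L)
    (θ : (Scheme.Modules.pullback (pullback.fst g g)).obj L ≅ (Scheme.Modules.pullback (pullback.snd g g)).obj L)
    (F G : Frame L) : ∃ R, IsUnit R ∧ IsRatio g θ F G R := by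
  obtain ⟨R, hR, hR'⟩ := (gen_of_iso θ (CubeLib.gen_pullMap _ hL F.gen
    (inf_le_left : pullback.fst g g ⁻¹ᵁ F.O ⊓ pullback.snd g g ⁻¹ᵁ G.O ≤ _))).exists_unit
    (CubeLib.gen_pullMap _ hL G.gen inf_le_right)
  exact ⟨R, hR, hR'.symm⟩

theorem app_res {Y : Scheme.{u}} {M N : Y.Modules} (φ : M ⟶ N) {V W : Y.Opens} (h : W ≤ V) (x : Γ(M, V)) :
    φ.app W (M.presheaf.map (homOfLE h).op x) = N.presheaf.map (homOfLE h).op (φ.app V x) :=
  congr($(φ.mapPresheaf.naturality (homOfLE h).op) x)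

/-- Change of frames. -/
theorem ratio_change (hL : PicF.IsInvertible L)
    {θ : (Scheme.Modules.pullback (pullback.fst g g)).obj L ≅ (Scheme.Modules.pullback (pullback.snd g g)).obj L}
    {F F' G G' : Frame L} {c : Γ(X', F.O ⊓ F'.O)} {d : Γ(X', G.O ⊓ G'.O)}
    (hc : c • L.presheaf.map (homOfLE inf_le_left).op F.t = L.presheaf.map (homOfLE inf_le_right).op F'.t)
    (hd : d • L.presheaf.map (homOfLE inf_le_left).op G.t = L.presheaf.map (homOfLE inf_le_right).op G'.t)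
    {R : Γ(pullback g g, pullback.fst g g ⁻¹ᵁ F.O ⊓ pullback.snd g g ⁻¹ᵁ G.O)}
    {R' : Γ(pullback g g, pullback.fst g g ⁻¹ᵁ F'.O ⊓ pullback.snd g g ⁻¹ᵁ G'.O)}
    (hR : IsRatio g θ F G R) (hR' : IsRatio g θ F' G' R')
    {T : Scheme.{u}} (a b : T ⟶ X') (w : a ≫ g = b ≫ g) (ea : ∀ z, a z ∈ F.O) (ea' : ∀ z, a z ∈ F'.O)
    (eb : ∀ z, b z ∈ G.O) (eb' : ∀ z, b z ∈ G'.O)
    (e : ∀ z, pullback.lift a b w z ∈ pullback.fst g g ⁻¹ᵁ F.O ⊓ pullback.snd g g ⁻¹ᵁ G.O)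
    (e' : ∀ z, pullback.lift a b w z ∈ pullback.fst g g ⁻¹ᵁ F'.O ⊓ pullback.snd g g ⁻¹ᵁ G'.O) :
    ev (pullback.lift a b w) e' R' * ev b (fun z => (⟨eb z, eb' z⟩ : b z ∈ G.O ⊓ G'.O)) d =
      ev a (fun z => (⟨ea z, ea' z⟩ : a z ∈ F.O ⊓ F'.O)) c * ev (pullback.lift a b w) e R := by
  let p₁ := pullback.fst g g
  let p₂ := pullback.snd g g
  let V := (p₁ ⁻¹ᵁ F.O ⊓ p₂ ⁻¹ᵁ G.O) ⊓ (p₁ ⁻¹ᵁ F'.O ⊓ p₂ ⁻¹ᵁ G'.O)
  have hV₁ : V ≤ p₁ ⁻¹ᵁ (F.O ⊓ F'.O) := fun z hz => ⟨hz.1.1, hz.2.1⟩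
  have hV₂ : V ≤ p₂ ⁻¹ᵁ (G.O ⊓ G'.O) := fun z hz => ⟨hz.1.2, hz.2.2⟩
  have hle : V ≤ p₁ ⁻¹ᵁ F.O ⊓ p₂ ⁻¹ᵁ G.O := inf_le_left
  have hle' : V ≤ p₁ ⁻¹ᵁ F'.O ⊓ p₂ ⁻¹ᵁ G'.O := inf_le_right
  have key : (pullback g g).presheaf.map (homOfLE hle').op R' * p₂.appLE _ V hV₂ d =
      p₁.appLE _ V hV₁ c * (pullback g g).presheaf.map (homOfLE hle).op R := by
    refine gen_inj (CubeLib.gen_pullMap p₂ hL G.gen (hle.trans inf_le_right)) ?_
    have e1 : ∀ {O : X'.Opens} (hO : V ≤ p₁ ⁻¹ᵁ O) (W : (pullback g g).Opens) (hW : W ≤ p₁ ⁻¹ᵁ O) (hVW : V ≤ W) (t : Γ(L, O)),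
        pullMap p₁ L hO t = ((Scheme.Modules.pullback p₁).obj L).presheaf.map (homOfLE hVW).op (pullMap p₁ L hW t) :=
      fun {O} hO W hW hVW t => by
        show _ = ((Scheme.Modules.pullback p₁).obj L).presheaf.map _ (((Scheme.Modules.pullback p₁).obj L).presheaf.map _ _)
        exact (ParaFLib.res_res _ _ _).symm
    have e2 : ∀ {O : X'.Opens} (hO : V ≤ p₂ ⁻¹ᵁ O) (W : (pullback g g).Opens) (hW : W ≤ p₂ ⁻¹ᵁ O) (hVW : V ≤ W) (t : Γ(L, O)),
        pullMap p₂ L hO t = ((Scheme.Modules.pullback p₂).obj L).presheaf.map (homOfLE hVW).op (pullMap p₂ L hW t) :=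
      fun {O} hO W hW hVW t => by
        show _ = ((Scheme.Modules.pullback p₂).obj L).presheaf.map _ (((Scheme.Modules.pullback p₂).obj L).presheaf.map _ _)
        exact (ParaFLib.res_res _ _ _).symm
    -- both sides are the image of the second frame
    have hs : pullMap p₂ L (hle'.trans inf_le_right) G'.t = p₂.appLE _ V hV₂ d • pullMap p₂ L (hle.trans inf_le_right) G.t := by
      have := congrArg (pullMap p₂ L hV₂) hd
      rw [pullMap_smul] at this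
      rw [e2 (hle'.trans inf_le_right) (p₂ ⁻¹ᵁ G'.O) le_rfl (hle'.trans inf_le_right) G'.t,
        pullMap_res p₂ L le_rfl (inf_le_right : G.O ⊓ G'.O ≤ G'.O) (hle'.trans inf_le_right) hV₂ G'.t, ← this,
        e2 (hle.trans inf_le_right) (p₂ ⁻¹ᵁ G.O) le_rfl (hle.trans inf_le_right) G.t,
        pullMap_res p₂ L le_rfl (inf_le_left : G.O ⊓ G'.O ≤ G.O) (hle.trans inf_le_right) hV₂ G.t]
    have ht : pullMap p₁ L (hle'.trans inf_le_left) F'.t = p₁.appLE _ V hV₁ c • pullMap p₁ L (hle.trans inf_le_left) F.t := by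
      have := congrArg (pullMap p₁ L hV₁) hc
      rw [pullMap_smul] at this
      rw [e1 (hle'.trans inf_le_left) (p₁ ⁻¹ᵁ F'.O) le_rfl (hle'.trans inf_le_left) F'.t,
        pullMap_res p₁ L le_rfl (inf_le_right : F.O ⊓ F'.O ≤ F'.O) (hle'.trans inf_le_left) hV₁ F'.t, ← this,
        e1 (hle.trans inf_le_left) (p₁ ⁻¹ᵁ F.O) le_rfl (hle.trans inf_le_left) F.t,
        pullMap_res p₁ L le_rfl (inf_le_left : F.O ⊓ F'.O ≤ F.O) (hle.trans inf_le_left) hV₁ F.t]
    rw [mul_smul, mul_smul, ← hs, e2 (hle'.trans inf_le_right) _ inf_le_right hle' G'.t,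
      e2 (hle.trans inf_le_right) _ inf_le_right hle G.t, ← Scheme.Modules.map_smul, ← Scheme.Modules.map_smul,
      ← hR, ← hR', ← app_res, ← app_res, ← e1 (hle.trans inf_le_left) _ inf_le_left hle F.t,
      ← e1 (hle'.trans inf_le_left) _ inf_le_left hle' F'.t, ht, Scheme.Modules.Hom.app_smul]
  have hl : ∀ z, pullback.lift a b w z ∈ V := fun z => ⟨e z, e' z⟩
  have := congrArg (ev (pullback.lift a b w) hl) key
  rw [map_mul, map_mul, ev_res, ev_res, ev_appLE, ev_appLE] at this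
  rw [← ev_congr (pullback.lift_fst a b w) (fun z => hV₁ (hl z)) _ c,
    ← ev_congr (pullback.lift_snd a b w) (fun z => hV₂ (hl z)) _ d]
  exact this

end Groth.Agent.InvDescLib
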