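import Mathlib

/-!
# Units on `R' ⊗ R'` satisfying the cocycle identity are locally coboundaries
-/

set_option autoImplicit false
set_option linter.style.haveILetI false

universe u

open scoped TensorProduct
open Algebra.TensorProduct

namespace Groth.Agent.InvDescLib

variable {R R' : Type u} [CommRing R] [CommRing R'] [Algebra R R'] [Module.FaithfullyFlat R R']

/-- The value of an element of `R' ⊗ R'` at a pair of points. -/
noncomputable def pair {C : Type u} [CommRing C] [Algebra R C] (a b : R' →ₐ[R] C) : R' ⊗[R] R' →ₐ[R] C :=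
  lift a b fun _ _ => Commute.all _ _

omit [Module.FaithfullyFlat R R'] in
theorem pair_tmul {C : Type u} [CommRing C] [Algebra R C] (a b : R' →ₐ[R] C) (x y : R') :
    pair a b (x ⊗ₜ y) = a x * b y := lift_tmul ..

omit [Module.FaithfullyFlat R R'] in
theorem pair_comp {C C' : Type u} [CommRing C] [Algebra R C] [CommRing C'] [Algebra R C'] (φ : C →ₐ[R] C')
    (a b : R' →ₐ[R] C) (z : R' ⊗[R] R') : φ (pair a b z) = pair (φ.comp a) (φ.comp b) z := by
  induction z using TensorProduct.induction_on with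
  | zero => simp
  | tmul x y => simp [pair_tmul]
  | add x y hx hy => simp [hx, hy]

omit [Module.FaithfullyFlat R R'] in
theorem pair_left_right (z : R' ⊗[R] R') :
    pair (includeLeft : R' →ₐ[R] R' ⊗[R] R') includeRight z = z := by
  induction z using TensorProduct.induction_on with
  | zero => simp
  | tmul x y => simp [pair_tmul]
  | add x y hx hy => simp [hx, hy]

variable (u : R' ⊗[R] R') (hu : IsUnit u)
  (hc : ∀ (C : Type u) [CommRing C] [Algebra R C] (a b c : R' →ₐ[R] C), pair a b u * pair b c u = pair a c u)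

include hu hc in
omit [Module.FaithfullyFlat R R'] in
theorem pair_diag {C : Type u} [CommRing C] [Algebra R C] (a : R' →ₐ[R] C) : pair a a u = 1 :=
  (hu.map (pair a a)).mul_left_cancel ((hc C a a a).trans (_root_.mul_one _).symm)

include hu hc in
/-- The elements transformed by `u` generate the unit ideal after base change. -/
theorem exists_sum_eq_one : ∃ (n : ℕ) (k r : Fin n → R'),
    (∀ i, u * (k i ⊗ₜ[R] 1) = 1 ⊗ₜ[R] k i) ∧ ∑ i, k i * r i = 1 := by
  let E := R' ⊗[R] R'
  let j₁ : R' →ₐ[R] E := includeLeft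
  let j₂ : R' →ₐ[R] E := includeRight
  let g : R' →ₗ[R] E := (LinearMap.mulLeft R u).comp j₁.toLinearMap - j₂.toLinearMap
  let e₁ : R' →ₐ[R] E ⊗[R] R' := (includeLeft : E →ₐ[R] E ⊗[R] R').comp j₁
  let e₂ : R' →ₐ[R] E ⊗[R] R' := (includeLeft : E →ₐ[R] E ⊗[R] R').comp j₂
  let e₃ : R' →ₐ[R] E ⊗[R] R' := includeRight
  have hu12 : (u ⊗ₜ[R] (1 : R') : E ⊗[R] R') = pair e₁ e₂ u := by
    rw [← pair_comp (includeLeft : E →ₐ[R] E ⊗[R] R') j₁ j₂ u, pair_left_right]
    rfl
  have hg : ∀ z : R' ⊗[R] R', g.rTensor R' z = pair e₁ e₂ u * pair e₁ e₃ z - pair e₂ e₃ z := fun z => by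
    induction z using TensorProduct.induction_on with
    | zero => simp
    | tmul x y =>
      rw [LinearMap.rTensor_tmul, pair_tmul, pair_tmul, ← hu12]
      show (u * j₁ x - j₂ x) ⊗ₜ[R] y = _
      simp [e₁, e₂, e₃, TensorProduct.sub_tmul]
    | add x y hx hy => rw [map_add, hx, hy, map_add, map_add, mul_add]; abel
  let z : R' ⊗[R] R' := pair j₂ j₁ u
  have hgz : g.rTensor R' z = 0 := by
    rw [hg, pair_comp, pair_comp, sub_eq_zero]
    have h1 : (pair e₁ e₃).comp j₂ = e₃ := AlgHom.ext fun x => by simp [pair_tmul, j₂]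
    have h2 : (pair e₁ e₃).comp j₁ = e₁ := AlgHom.ext fun x => by simp [pair_tmul, j₁]
    have h3 : (pair e₂ e₃).comp j₂ = e₃ := AlgHom.ext fun x => by simp [pair_tmul, j₂]
    have h4 : (pair e₂ e₃).comp j₁ = e₂ := AlgHom.ext fun x => by simp [pair_tmul, j₁]
    rw [h1, h2, h3, h4, _root_.mul_comm, hc]
  let K : Submodule R R' := LinearMap.ker g
  obtain ⟨w, hw⟩ := ((Module.Flat.rTensor_exact R' (LinearMap.exact_subtype_ker_map g)) z).1 hgz
  have hm : pair (AlgHom.id R R') (AlgHom.id R R') z = 1 := by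
    rw [pair_comp]
    have h1 : (pair (AlgHom.id R R') (AlgHom.id R R')).comp j₂ = AlgHom.id R R' := AlgHom.ext fun x => by simp [pair_tmul, j₂]
    have h2 : (pair (AlgHom.id R R') (AlgHom.id R R')).comp j₁ = AlgHom.id R R' := AlgHom.ext fun x => by simp [pair_tmul, j₁]
    rw [h1, h2, pair_diag u hu hc]
  obtain ⟨n, k, r, rfl⟩ := TensorProduct.exists_sum_tmul_eq w
  refine ⟨n, fun i => (k i).1, r, fun i => sub_eq_zero.1 (k i).2, ?_⟩
  rw [← hm, ← hw, map_sum, map_sum]
  exact Finset.sum_congr rfl fun i _ => (pair_tmul (AlgHom.id R R') (AlgHom.id R R') (k i).1 (r i)).symm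

include hu hc in
/-- Near every prime `u` is the coboundary of a unit. -/
theorem exists_local_unit (p : Ideal R) [p.IsPrime] : ∃ f ∉ p, ∃ k k' : R',
    u * (k ⊗ₜ[R] 1) = 1 ⊗ₜ[R] k ∧ k * k' = algebraMap R R' f := by
  obtain ⟨u', huu'⟩ := hu.exists_right_inv
  have hu' : IsUnit u' := IsUnit.of_mul_eq_one u (by rw [_root_.mul_comm, huu'])
  have hc' : ∀ (C : Type u) [CommRing C] [Algebra R C] (a b c : R' →ₐ[R] C),
      pair a b u' * pair b c u' = pair a c u' := fun C _ _ a b c => by
    apply (hu.map (pair a c)).mul_left_cancel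
    rw [← map_mul, huu', map_one, ← hc C a b c, mul_mul_mul_comm, ← map_mul, ← map_mul, huu', map_one, map_one,
      _root_.one_mul]
  obtain ⟨n, k, r, hk, hkr⟩ := exists_sum_eq_one u hu hc
  obtain ⟨m, k', r', hk', hkr'⟩ := exists_sum_eq_one u' hu' hc'
  have hkk : ∀ i j, ∃ f : R, algebraMap R R' f = k i * k' j := fun i j => by
    refine ((Algebra.IsEffective.of_faithfullyFlat (R := R) (S := R')) _).1 ?_
    rw [includeLeftSubRight_apply, sub_eq_zero]
    rw [show (1 : R') ⊗ₜ[R] (k i * k' j) = (1 ⊗ₜ[R] k i) * (1 ⊗ₜ[R] k' j) by simp, ← hk i, ← hk' j,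
      mul_mul_mul_comm, huu', _root_.one_mul, tmul_mul_tmul, _root_.one_mul]
  choose f hf using hkk
  by_contra! hcon
  have hall : ∀ i j, f i j ∈ p := fun i j => by
    by_contra h
    exact hcon _ h (k i) (k' j) (hk i) (hf i j).symm
  have h1 : (1 : R') ∈ p.map (algebraMap R R') := by
    rw [← mul_one (1 : R')]
    nth_rw 1 [← hkr]
    rw [← hkr', Finset.sum_mul_sum]
    refine Ideal.sum_mem _ fun i _ => Ideal.sum_mem _ fun j _ => ?_
    rw [mul_mul_mul_comm]
    exact Ideal.mul_mem_right _ _ (hf i j ▸ Ideal.mem_map_of_mem _ (hall i j))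
  have h2 := Ideal.comap_map_eq_self_of_faithfullyFlat (B := R') p
  exact ‹p.IsPrime›.ne_top ((Ideal.eq_top_iff_one _).2 (h2 ▸ (show (1 : R) ∈ (p.map (algebraMap R R')).comap (algebraMap R R') by rw [Ideal.mem_comap, map_one]; exact h1)))

end Groth.Agent.InvDescLib
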