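import Groth.Agent.SchDesc.Cover

/-!
# Composites of fpqc covering morphisms
-/

set_option autoImplicit false
set_option linter.style.haveILetI false
universe u
open CategoryTheory CategoryTheory.Limits AlgebraicGeometry

namespace Groth.Agent.InvDescLib

open Groth.Agent.SchDesc

theorem isFpqc_comp {Y X S : Scheme.{u}} (q : Y ⟶ X) (p : X ⟶ S) [IsFpqc q] [IsFpqc p] : IsFpqc (q ≫ p) := by
  refine ⟨inferInstance, inferInstance, ⟨fun {U} hU => ?_⟩⟩
  haveI : QuasiCompactCover (PreZeroHypercover.singleton.{0} p) := IsFpqc.qcc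
  haveI : QuasiCompactCover (PreZeroHypercover.singleton.{0} q) := IsFpqc.qcc
  obtain ⟨n, _, V, hV, hVU⟩ :=
    QuasiCompactCover.exists_isAffineOpen_of_isCompact (PreZeroHypercover.singleton.{0} p) hU.isCompact
  let V₁ : Fin n → X.Opens := fun i => V i
  let W : X.Opens := ⨆ i, V₁ i
  have hW : IsCompact (W : Set X) := by
    rw [show (W : Set X) = ⋃ i, (V₁ i : Set X) from TopologicalSpace.Opens.coe_iSup V₁]
    exact isCompact_iUnion fun i => (hV i).isCompact
  obtain ⟨m, _, V', hV', hVW⟩ :=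
    QuasiCompactCover.exists_isAffineOpen_of_isCompact (PreZeroHypercover.singleton.{0} q) hW
  refine .of_finite (κ := Fin m) (fun _ => ⟨⟩) (fun i => V' i) (fun i => (hV' i).isCompact) ?_
  rw [← hVU]
  ext z
  simp only [Set.mem_iUnion, Set.mem_image]
  constructor
  · rintro ⟨i, y, hy, rfl⟩
    have h : (PreZeroHypercover.singleton.{0} q).f ⟨⟩ y ∈ (W : Set X) := by
      rw [← hVW]; exact Set.mem_iUnion.2 ⟨i, y, hy, rfl⟩
    obtain ⟨j, hj⟩ := Set.mem_iUnion.1 (by rwa [TopologicalSpace.Opens.coe_iSup] at h)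
    exact ⟨j, q y, hj, (Scheme.Hom.comp_apply q p y).symm⟩
  · rintro ⟨j, x, hx, rfl⟩
    have hx' : x ∈ (W : Set X) := TopologicalSpace.Opens.mem_iSup.2 ⟨j, hx⟩
    rw [← hVW] at hx'
    obtain ⟨i, y, hy, rfl⟩ := Set.mem_iUnion.1 hx'
    exact ⟨i, y, hy, Scheme.Hom.comp_apply q p y⟩

end Groth.Agent.InvDescLib
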