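import Groth.Agent.InvDescLib.Normalise
import Groth.Agent.InvDescLib.FpqcComp

/-!
# A cocycle of frames becomes a unit cocycle on a covering by frames
-/

set_option autoImplicit false
set_option backward.isDefEq.respectTransparency false
set_option linter.style.haveILetI false

universe u

open CategoryTheory CategoryTheory.Limits AlgebraicGeometry TopologicalSpace
open Groth.Agent.SchDesc Groth.Agent.ParaFLib Groth.Agent.PullbackMod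

noncomputable section

namespace Groth.Agent.InvDescLib

variable {X' X : Scheme.{u}} {g : X' ⟶ X} {L : X'.Modules}

theorem Datum.IsCocycle.diag {P : Datum g L} (hP : P.IsCocycle) (F : Frame L) {T : Scheme.{u}} (a : T ⟶ X')
    (w : a ≫ g = a ≫ g) (ea ea' : ∀ z, a z ∈ F.O) : P.val F F a a w ea ea' = 1 :=
  (P.unit F F a a w ea ea').mul_left_cancel ((hP F F F a a a w w ea ea ea).trans (_root_.mul_one _).symm)

theorem Datum.IsCocycle.transition {P : Datum g L} (hP : P.IsCocycle) (F G : Frame L) {d : Γ(X', F.O ⊓ G.O)}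
    (hd : d • L.presheaf.map (homOfLE inf_le_left).op F.t = L.presheaf.map (homOfLE inf_le_right).op G.t)
    {T : Scheme.{u}} (a : T ⟶ X') (w : a ≫ g = a ≫ g) (ea : ∀ z, a z ∈ F.O) (eb : ∀ z, a z ∈ G.O) :
    P.val F G a a w ea eb * ev a (fun z => (⟨ea z, eb z⟩ : a z ∈ F.O ⊓ G.O)) d = 1 := by
  have h1 : (1 : Γ(X', F.O ⊓ F.O)) • L.presheaf.map (homOfLE inf_le_left).op F.t =
      L.presheaf.map (homOfLE inf_le_right).op F.t := one_smul _ _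
  rw [P.change F F F G 1 d h1 hd a a w ea ea ea eb, map_one, _root_.one_mul, hP.diag]

theorem subsingleton_of_isEmpty (T : Scheme.{u}) [IsEmpty T] : Subsingleton Γ(T, ⊤) := inferInstance

variable [IsFpqc g]

/-- Near every point of the base the frames can be rescaled to become invariant. -/
theorem exists_scales {P : Datum g L} (hP : P.IsCocycle) (Fr : X' → Frame L) (hFr : ∀ x, x ∈ (Fr x).O) (y : X) :
    ∃ D : X.Opens, y ∈ D ∧ ∃ k : ∀ x, Γ(X', (Fr x).O ⊓ g ⁻¹ᵁ D), (∀ x, IsUnit (k x)) ∧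
      ∀ (x x' : X') (T : Scheme.{u}) (a b : T ⟶ X') (w : a ≫ g = b ≫ g) (ea : ∀ z, a z ∈ (Fr x).O ⊓ g ⁻¹ᵁ D)
        (eb : ∀ z, b z ∈ (Fr x').O ⊓ g ⁻¹ᵁ D),
        P.val (Fr x) (Fr x') a b w (fun z => (ea z).1) (fun z => (eb z).1) * ev a ea (k x) = ev b eb (k x') := by
  let Y : X' → Scheme.{u} := fun x => ((Fr x).O : Scheme.{u})
  let q₀ : ∐ Y ⟶ X' := Sigma.desc fun x => (Fr x).O.ι
  haveI : Flat q₀ := IsZariskiLocalAtSource.sigmaDesc fun x => (inferInstance : Flat (Fr x).O.ι)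
  haveI : LocallyOfFinitePresentation q₀ :=
    IsZariskiLocalAtSource.sigmaDesc fun x => (inferInstance : LocallyOfFinitePresentation (Fr x).O.ι)
  haveI : Surjective q₀ := ⟨fun z => ⟨Sigma.ι Y z ⟨z, hFr z⟩, by
    rw [← Scheme.Hom.comp_apply, Sigma.ι_desc]; rfl⟩⟩
  let q := q₀ ≫ g
  haveI : IsFpqc q₀ := IsFpqc.of_locallyOfFinitePresentation q₀
  haveI : IsFpqc q := isFpqc_comp q₀ g
  let p₁ := pullback.fst q q
  let p₂ := pullback.snd q q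
  let V : ↥X' × ↥X' → (pullback q q).Opens := fun i =>
    p₁ ⁻¹ᵁ (Sigma.ι Y i.1).opensRange ⊓ p₂ ⁻¹ᵁ (Sigma.ι Y i.2).opensRange
  have hcomp : ∀ (x : X') {T : Scheme.{u}} (a : T ⟶ Y x) (a' : T ⟶ ∐ Y), a ≫ Sigma.ι Y x = a' →
      a ≫ (Fr x).O.ι ≫ g = a' ≫ q := fun x T a a' h => by
    rw [← h, Category.assoc, Sigma.ι_desc_assoc]
  have hlift : ∀ i : ↥X' × ↥X', ∃ (a₀ : (V i : Scheme.{u}) ⟶ Y i.1) (b₀ : (V i : Scheme.{u}) ⟶ Y i.2),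
      a₀ ≫ Sigma.ι Y i.1 = (V i).ι ≫ p₁ ∧ b₀ ≫ Sigma.ι Y i.2 = (V i).ι ≫ p₂ := fun i =>
    ⟨IsOpenImmersion.lift (Sigma.ι Y i.1) _ (by rintro _ ⟨z, rfl⟩; exact z.2.1),
      IsOpenImmersion.lift (Sigma.ι Y i.2) _ (by rintro _ ⟨z, rfl⟩; exact z.2.2),
      IsOpenImmersion.lift_fac _ _ _, IsOpenImmersion.lift_fac _ _ _⟩
  choose A B hA hB using hlift
  have hAB : ∀ i, (A i ≫ (Fr i.1).O.ι) ≫ g = (B i ≫ (Fr i.2).O.ι) ≫ g := fun i => by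
    rw [Category.assoc, Category.assoc, hcomp _ _ _ (hA i), hcomp _ _ _ (hB i), Category.assoc, pullback.condition,
      Category.assoc]
  let val : ∀ i : ↥X' × ↥X', Γ((V i : Scheme.{u}), ⊤) := fun i =>
    P.val (Fr i.1) (Fr i.2) _ _ (hAB i) (fun z => (A i z).2) (fun z => (B i z).2)
  obtain ⟨v, hv⟩ := exists_glue_points V (iSup_eq_top _ fun z => by
      obtain ⟨x, a, ha⟩ := (sigmaOpenCover Y).exists_eq (p₁ z)
      obtain ⟨x', b, hb⟩ := (sigmaOpenCover Y).exists_eq (p₂ z)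
      exact ⟨(x, x'), ⟨a, ha⟩, ⟨b, hb⟩⟩) val fun i j T m n hmn => by
    rcases isEmpty_or_nonempty T with hT | ⟨⟨z⟩⟩
    · haveI := subsingleton_of_isEmpty T
      exact Subsingleton.elim _ _
    · have hz : (V i).ι (m z) = (V j).ι (n z) := by
        rw [← Scheme.Hom.comp_apply, hmn, Scheme.Hom.comp_apply]
      obtain ⟨i₁, i₂⟩ := i
      obtain ⟨j₁, j₂⟩ := j
      obtain rfl : i₁ = j₁ := by
        by_contra hne
        exact Set.disjoint_iff.1 (Opens.coe_disjoint.2 (disjoint_opensRange_sigmaι Y i₁ j₁ hne))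
          ⟨(m z).2.1, by have := (n z).2.1; rwa [show (n z).1 = (m z).1 from hz.symm] at this⟩
      obtain rfl : i₂ = j₂ := by
        by_contra hne
        exact Set.disjoint_iff.1 (Opens.coe_disjoint.2 (disjoint_opensRange_sigmaι Y i₂ j₂ hne))
          ⟨(m z).2.2, by have := (n z).2.2; rwa [show (n z).1 = (m z).1 from hz.symm] at this⟩
      have : m = n := (cancel_mono _).1 hmn
      rw [this]
  have hval : ∀ (x x' : X') {T : Scheme.{u}} (a₀ : T ⟶ Y x) (b₀ : T ⟶ Y x') (a b : T ⟶ ∐ Y)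
      (_ : a₀ ≫ Sigma.ι Y x = a) (_ : b₀ ≫ Sigma.ι Y x' = b) (w : a ≫ q = b ≫ q)
      (a' b' : T ⟶ X') (_ : a₀ ≫ (Fr x).O.ι = a') (_ : b₀ ≫ (Fr x').O.ι = b') (w' : a' ≫ g = b' ≫ g)
      (ea : ∀ z, a' z ∈ (Fr x).O) (eb : ∀ z, b' z ∈ (Fr x').O),
      val2 q v a b w = P.val (Fr x) (Fr x') a' b' w' ea eb := by
    intro x x' T a₀ b₀ a b ha hb w a' b' ha' hb' w' ea eb
    let l := pullback.lift a b w
    let i : ↥X' × ↥X' := (x, x')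
    let m : T ⟶ (V i : Scheme.{u}) := IsOpenImmersion.lift (V i).ι l (by
      rintro _ ⟨z, rfl⟩
      rw [Scheme.Opens.range_ι]
      refine ⟨⟨a₀ z, ?_⟩, ⟨b₀ z, ?_⟩⟩
      · show Sigma.ι Y x (a₀ z) = p₁ (l z)
        rw [← Scheme.Hom.comp_apply, ha, ← Scheme.Hom.comp_apply, pullback.lift_fst]
      · show Sigma.ι Y x' (b₀ z) = p₂ (l z)
        rw [← Scheme.Hom.comp_apply, hb, ← Scheme.Hom.comp_apply, pullback.lift_snd])
    have hm : m ≫ (V i).ι = l := IsOpenImmersion.lift_fac _ _ _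
    have e₁ : m ≫ A i = a₀ := by
      rw [← cancel_mono (Sigma.ι Y x), Category.assoc, hA i, reassoc_of% hm, pullback.lift_fst, ha]
    have e₂ : m ≫ B i = b₀ := by
      rw [← cancel_mono (Sigma.ι Y x'), Category.assoc, hB i, reassoc_of% hm, pullback.lift_snd, hb]
    rw [val2, show pullback.lift a b w = m ≫ (V i).ι from hm.symm, Scheme.Hom.comp_appTop, CommRingCat.comp_apply, hv i]
    exact P.natural _ _ m _ _ (hAB i) _ _ _ _ (by rw [reassoc_of% e₁]; exact ha')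
      (by rw [reassoc_of% e₂]; exact hb') w' ea eb
  have hvu : IsUnit v := by
    refine RingedSpace.isUnit_of_isUnit_germ _ _ v fun z _ => ?_
    obtain ⟨x, a, ha⟩ := (sigmaOpenCover Y).exists_eq (p₁ z)
    obtain ⟨x', b, hb⟩ := (sigmaOpenCover Y).exists_eq (p₂ z)
    let i : ↥X' × ↥X' := (x, x')
    have h1 : IsUnit ((V i).ι.appTop v) := by rw [hv i]; exact P.unit _ _ _ _ _ _ _
    have h2 : (⟨z, ⟨a, ha⟩, ⟨b, hb⟩⟩ : V i) ∈ (V i : Scheme.{u}).basicOpen ((V i).ι.appTop v) := by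
      rw [Scheme.mem_basicOpen_top]; exact h1.map _
    rw [← Scheme.preimage_basicOpen_top] at h2
    exact (Scheme.mem_basicOpen_top (pullback q q) v z).1 h2
  have hvc : Cocycle q v := by
    intro T a b c w₁ w₂
    let O : ↥X' × ↥X' × ↥X' → T.Opens := fun i =>
      a ⁻¹ᵁ (Sigma.ι Y i.1).opensRange ⊓ b ⁻¹ᵁ (Sigma.ι Y i.2.1).opensRange ⊓ c ⁻¹ᵁ (Sigma.ι Y i.2.2).opensRange
    refine eq_of_forall_restrict O (iSup_eq_top _ fun z => by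
      obtain ⟨x, a', ha⟩ := (sigmaOpenCover Y).exists_eq (a z)
      obtain ⟨x', b', hb⟩ := (sigmaOpenCover Y).exists_eq (b z)
      obtain ⟨x'', c', hc⟩ := (sigmaOpenCover Y).exists_eq (c z)
      exact ⟨(x, x', x''), ⟨⟨a', ha⟩, ⟨b', hb⟩⟩, ⟨c', hc⟩⟩) fun i => ?_
    let j := (O i).ι
    let a₀ : (O i : Scheme.{u}) ⟶ Y i.1 := IsOpenImmersion.lift (Sigma.ι Y i.1) (j ≫ a) (by
      rintro _ ⟨z, rfl⟩; exact z.2.1.1)
    let b₀ : (O i : Scheme.{u}) ⟶ Y i.2.1 := IsOpenImmersion.lift (Sigma.ι Y i.2.1) (j ≫ b) (by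
      rintro _ ⟨z, rfl⟩; exact z.2.1.2)
    let c₀ : (O i : Scheme.{u}) ⟶ Y i.2.2 := IsOpenImmersion.lift (Sigma.ι Y i.2.2) (j ≫ c) (by
      rintro _ ⟨z, rfl⟩; exact z.2.2)
    have ha : a₀ ≫ Sigma.ι Y i.1 = j ≫ a := IsOpenImmersion.lift_fac _ _ _
    have hb : b₀ ≫ Sigma.ι Y i.2.1 = j ≫ b := IsOpenImmersion.lift_fac _ _ _
    have hc : c₀ ≫ Sigma.ι Y i.2.2 = j ≫ c := IsOpenImmersion.lift_fac _ _ _
    have u₁ : (j ≫ a) ≫ q = (j ≫ b) ≫ q := by rw [Category.assoc, w₁, Category.assoc]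
    have u₂ : (j ≫ b) ≫ q = (j ≫ c) ≫ q := by rw [Category.assoc, w₂, Category.assoc]
    have v₁ : (a₀ ≫ (Fr i.1).O.ι) ≫ g = (b₀ ≫ (Fr i.2.1).O.ι) ≫ g := by
      rw [Category.assoc, Category.assoc, hcomp _ _ _ ha, hcomp _ _ _ hb]; exact u₁
    have v₂ : (b₀ ≫ (Fr i.2.1).O.ι) ≫ g = (c₀ ≫ (Fr i.2.2).O.ι) ≫ g := by
      rw [Category.assoc, Category.assoc, hcomp _ _ _ hb, hcomp _ _ _ hc]; exact u₂
    rw [map_mul, val2_comp q v j a b w₁ _ _ rfl rfl u₁, val2_comp q v j b c w₂ _ _ rfl rfl u₂,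
      val2_comp q v j a c (w₁.trans w₂) _ _ rfl rfl (u₁.trans u₂),
      hval _ _ a₀ b₀ _ _ ha hb u₁ _ _ rfl rfl v₁ (fun z => (a₀ z).2) (fun z => (b₀ z).2),
      hval _ _ b₀ c₀ _ _ hb hc u₂ _ _ rfl rfl v₂ (fun z => (b₀ z).2) (fun z => (c₀ z).2),
      hval _ _ a₀ c₀ _ _ ha hc (u₁.trans u₂) _ _ rfl rfl (v₁.trans v₂) (fun z => (a₀ z).2) (fun z => (c₀ z).2)]
    exact hP _ _ _ _ _ _ v₁ v₂ _ _ _
  obtain ⟨D, hyD, k, hk, hkeq⟩ := exists_local_unit_of_cocycle q hvu hvc y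
  let J : ∀ x, ((Fr x).O ⊓ g ⁻¹ᵁ D : X'.Opens).toScheme ⟶ Y x := fun x => X'.homOfLE inf_le_left
  let e : ∀ x, ((Fr x).O ⊓ g ⁻¹ᵁ D : X'.Opens).toScheme ⟶ ∐ Y := fun x => J x ≫ Sigma.ι Y x
  have he : ∀ x z, e x z ∈ q ⁻¹ᵁ D := fun x z => by
    show q (e x z) ∈ D
    rw [← Scheme.Hom.comp_apply, ← hcomp x (J x) (e x) rfl, Scheme.homOfLE_ι_assoc]
    exact z.2.2
  let k' : ∀ x, Γ(X', (Fr x).O ⊓ g ⁻¹ᵁ D) := fun x =>
    ((Fr x).O ⊓ g ⁻¹ᵁ D : X'.Opens).topIso.hom (ev (e x) (he x) k)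
  refine ⟨D, hyD, k', fun x => (hk.map _).map _, fun x x' T a b w ea eb => ?_⟩
  let a₁ : T ⟶ ((Fr x).O ⊓ g ⁻¹ᵁ D : X'.Opens).toScheme := IsOpenImmersion.lift (Scheme.Opens.ι _) a (by
    rintro _ ⟨z, rfl⟩; rw [Scheme.Opens.range_ι]; exact ea z)
  let b₁ : T ⟶ ((Fr x').O ⊓ g ⁻¹ᵁ D : X'.Opens).toScheme := IsOpenImmersion.lift (Scheme.Opens.ι _) b (by
    rintro _ ⟨z, rfl⟩; rw [Scheme.Opens.range_ι]; exact eb z)
  have ha₁ : a₁ ≫ Scheme.Opens.ι _ = a := IsOpenImmersion.lift_fac _ _ _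
  have hb₁ : b₁ ≫ Scheme.Opens.ι _ = b := IsOpenImmersion.lift_fac _ _ _
  have ha₂ : (a₁ ≫ J x) ≫ (Fr x).O.ι = a := by rw [Category.assoc, Scheme.homOfLE_ι, ha₁]
  have hb₂ : (b₁ ≫ J x') ≫ (Fr x').O.ι = b := by rw [Category.assoc, Scheme.homOfLE_ι, hb₁]
  have hev : ∀ (x : X') (a : T ⟶ X') (ea : ∀ z, a z ∈ (Fr x).O ⊓ g ⁻¹ᵁ D)
      (a₁ : T ⟶ ((Fr x).O ⊓ g ⁻¹ᵁ D : X'.Opens).toScheme) (_ : a₁ ≫ Scheme.Opens.ι _ = a),
      ev a ea (k' x) = ev (a₁ ≫ e x) (fun z => he x (a₁ z)) k := fun x a ea a₁ h₁ => by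
    rw [ev_congr h₁.symm ea (fun z => (a₁ z).2), ev_comp a₁ _ (fun z => z.2), ev_ι, Iso.hom_inv_id_apply, ← ev_comp]
  rw [hev x a ea a₁ ha₁, hev x' b eb b₁ hb₁]
  have w₀ : (a₁ ≫ e x) ≫ q = (b₁ ≫ e x') ≫ q := by
    calc (a₁ ≫ e x) ≫ q = a₁ ≫ J x ≫ (Fr x).O.ι ≫ g := by rw [Category.assoc, hcomp x (J x) (e x) rfl]
      _ = a ≫ g := by rw [← ha₂]; simp only [Category.assoc]
      _ = b ≫ g := w
      _ = b₁ ≫ J x' ≫ (Fr x').O.ι ≫ g := by rw [← hb₂]; simp only [Category.assoc]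
      _ = _ := by rw [Category.assoc, hcomp x' (J x') (e x') rfl]
  rw [← hval x x' (a₁ ≫ J x) (b₁ ≫ J x') (a₁ ≫ e x) (b₁ ≫ e x') (Category.assoc _ _ _) (Category.assoc _ _ _) w₀ a b ha₂ hb₂ w]
  exact hkeq T _ _ _ _ w₀

end Groth.Agent.InvDescLib
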