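import Groth.Agent.InvDescLib.Rig
import Groth.Agent.ProperFin.Transfer
import Groth.Agent.RelTildeLib.GlueMod

/-!
# Invertible classes on a disjoint union
-/

set_option autoImplicit false
set_option backward.isDefEq.respectTransparency false
set_option linter.style.haveILetI false

universe u

open CategoryTheory CategoryTheory.Limits AlgebraicGeometry TopologicalSpace Opposite
open Groth.Agent.ParaFLib Groth.Agent.PicLib Groth.Agent.AbDualLib
open Groth.Agent.AmpleLib (isInvertible_pullback)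

noncomputable section

namespace Groth.Agent.InvDescLib

variable {Y Z : Scheme.{u}}

/-- A generator of the inverse image along an open immersion gives a generator on the image. -/
theorem gen_pbSec_symm (j : Z ⟶ Y) [IsOpenImmersion j] (M : Y.Modules) {W : Z.Opens}
    {τ : Γ((Scheme.Modules.pullback j).obj M, W)} (h : Gen W τ) :
    Gen (j ''ᵁ W) ((ProperFin.pbSec j M W).symm τ) := by
  intro O hO
  have hO' : j ''ᵁ (j ⁻¹ᵁ O) = O :=
    (j.image_preimage_eq_opensRange_inf O).trans (inf_eq_right.2 (hO.trans (j.image_le_opensRange W)))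
  have key : ∀ (W' : Z.Opens) (_ : W' ≤ W) (P : Y.Opens) (_ : j ''ᵁ W' = P) (hP : P ≤ j ''ᵁ W),
      Function.Bijective fun r : Γ(Y, P) => r • M.presheaf.map (homOfLE hP).op ((ProperFin.pbSec j M W).symm τ) := by
    intro W' h' P e hP
    subst e
    rw [show (fun r : Γ(Y, j ''ᵁ W') =>
        r • M.presheaf.map (homOfLE (j.image_mono h')).op ((ProperFin.pbSec j M W).symm τ)) =
      (ProperFin.pbSec j M W').symm ∘ (fun r => r • ((Scheme.Modules.pullback j).obj M).presheaf.map (homOfLE h').op τ) ∘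
        (j.appIso W').hom from funext fun r => by
      refine (ProperFin.pbSec j M W').injective ?_
      simp only [Function.comp_apply, AddEquiv.apply_symm_apply]
      rw [ProperFin.pbSec_smul, ProperFin.pbSec_res j M h', AddEquiv.apply_symm_apply]]
    exact (ProperFin.pbSec j M W').symm.bijective.comp
      ((h W' h').comp (ConcreteCategory.bijective_of_isIso (j.appIso W').hom))
  have h' : j ⁻¹ᵁ O ≤ W := fun z hz => by
    obtain ⟨w, hw, e⟩ := hO hz
    exact j.isOpenEmbedding.injective e ▸ hw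
  exact key _ h' O hO' hO

variable {ι : Type u} {Zs : ι → Scheme.{u}} (j : ∀ i, Zs i ⟶ Y) [∀ i, IsOpenImmersion (j i)]

/-- The family is that of the pieces of a disjoint union. -/
structure IsDisjointUnion : Prop where
  disj : ∀ i k a b, j i a = j k b → i = k
  cover : ∀ y : Y, ∃ i a, j i a = y

variable {j}

theorem IsDisjointUnion.inf_eq_bot (hj : IsDisjointUnion j) {i k : ι} (hik : i ≠ k) :
    (j i).opensRange ⊓ (j k).opensRange = ⊥ :=
  le_bot_iff.1 fun y hy => by
    obtain ⟨⟨a, rfl⟩, b, hb⟩ := hy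
    exact absurd (hj.disj _ _ _ _ hb.symm) hik

theorem IsDisjointUnion.triv (hj : IsDisjointUnion j) {L : Y.Modules}
    (h : ∀ i, CubeLib.Triv ((Scheme.Modules.pullback (j i)).obj L)) : CubeLib.Triv L := by
  choose τ hτ using h
  let O : ι → Y.Opens := fun i => j i ''ᵁ ⊤
  let s : ∀ i, Γ(L, O i) := fun i => (ProperFin.pbSec (j i) L ⊤).symm (τ i)
  have hcov : (⊤ : Y.Opens) ≤ iSup O := fun y _ => by
    obtain ⟨i, a, rfl⟩ := hj.cover y
    exact Opens.mem_iSup.2 ⟨i, a, trivial, rfl⟩
  have hcompat : TopCat.Presheaf.IsCompatible L.presheaf O s := by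
    intro i k
    rcases eq_or_ne i k with rfl | hik
    · rfl
    · refine TopCat.Sheaf.eq_of_locally_eq' (⟨L.presheaf, L.isSheaf⟩ : TopCat.Sheaf Ab.{u} Y.carrier)
        (fun e : PEmpty.{u + 1} => e.elim) _ (fun e => e.elim) ?_ _ _ fun e => e.elim
      refine le_trans ?_ bot_le
      rw [← hj.inf_eq_bot hik, ← Scheme.Hom.image_top_eq_opensRange, ← Scheme.Hom.image_top_eq_opensRange]
  let N : TopCat.Sheaf Ab.{u} Y.carrier := ⟨L.presheaf, L.isSheaf⟩
  obtain ⟨t, ht, -⟩ := N.existsUnique_gluing' O ⊤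
    (fun i => homOfLE le_top) hcov s hcompat
  exact ⟨t, gen_of_cover O (fun i => le_top) hcov fun i => by
    rw [show L.presheaf.map (homOfLE (le_top : O i ≤ ⊤)).op t = s i from ht i]
    exact gen_pbSec_symm (j i) L (hτ i)⟩

theorem IsDisjointUnion.eq_one (hj : IsDisjointUnion j) {d : Pic Y} (h : ∀ i, pull (j i) d = 1) : d = 1 := by
  obtain ⟨L, hL, rfl⟩ := exists_cls d
  exact (eq_one_iff_triv hL).2 (hj.triv fun i => (eq_one_iff_triv (isInvertible_pullback _ hL)).1
    ((pull_cls _ hL).symm.trans (h i)))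

/-- Invertible classes on the pieces glue. -/
theorem IsDisjointUnion.exists_pic (hj : IsDisjointUnion j) (d : ∀ i, Pic (Zs i)) :
    ∃ D : Pic Y, ∀ i, pull (j i) D = d i := by
  choose L hL hd using fun i => exists_cls (d i)
  have heq : ∀ {a b : ι} (x : Y), x ∈ (j a).opensRange → x ∈ (j b).opensRange → a = b := fun {a b} x ha hb => by
    obtain ⟨p, rfl⟩ := ha
    obtain ⟨q, hq⟩ := hb
    exact (hj.disj _ _ _ _ hq).symm
  let H : ι → Y.Modules := fun a => (Scheme.Modules.pushforward (j a)).obj (L a)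
  let G : RelTildeLib.GlueData Y :=
    { κ := ι
      O := fun a => (j a).opensRange
      R := Eq
      H := H
      c := fun {a b} h => eqToHom (congrArg H h)
      cover := fun x => by
        obtain ⟨i, a, rfl⟩ := hj.cover x
        exact ⟨i, a, rfl⟩
      le := by rintro a b rfl; exact le_rfl
      trans := fun h h' => h.trans h'
      comp := fun h h' => eqToHom_trans _ _
      common := fun a b x ha hb => ⟨a, rfl, (heq x ha hb).symm, ha⟩
      res_bij := fun a W => by
        have e : j a ⁻¹ᵁ W = j a ⁻¹ᵁ (W ⊓ (j a).opensRange) :=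
          le_antisymm (fun z hz => ⟨hz, z, rfl⟩) fun z hz => hz.1
        haveI : IsIso (homOfLE ((j a).preimage_mono (inf_le_left : W ⊓ (j a).opensRange ≤ W))) :=
          ⟨homOfLE e.le, Subsingleton.elim _ _, Subsingleton.elim _ _⟩
        exact ConcreteCategory.bijective_of_isIso
          ((L a).presheaf.map (homOfLE ((j a).preimage_mono (inf_le_left : W ⊓ (j a).opensRange ≤ W))).op)
      c_bij := by
        rintro a b rfl W -
        exact Function.bijective_id }
  let φ : ∀ a, G.glued.restrict (j a) ⟶ L a := fun a =>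
    (Scheme.Modules.restrictFunctor (j a)).map (G.π a) ≫ (Scheme.Modules.restrictAdjunction (j a)).counit.app (L a)
  have hφ : ∀ a, IsIso (φ a) := fun a => by
    haveI : IsIso ((Scheme.Modules.restrictFunctor (j a)).map (G.π a)) := by
      refine Scheme.Modules.Hom.isIso_iff_isIso_app.2 fun V => ?_
      rw [ConcreteCategory.isIso_iff_bijective]
      exact G.π_bijective a (j a ''ᵁ V) ((j a).image_le_opensRange V)
    infer_instance
  let e : ∀ a, (Scheme.Modules.pullback (j a)).obj G.glued ≅ L a := fun a =>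
    ((Scheme.Modules.restrictFunctorIsoPullback (j a)).app G.glued).symm ≪≫ @asIso _ _ _ _ (φ a) (hφ a)
  have hM : PicF.IsInvertible G.glued := AmpleLib.isInvertible_of_gen fun x => by
    obtain ⟨a, z, rfl⟩ := hj.cover x
    obtain ⟨W, s, hz, hs⟩ := exists_gen_nhd (hL a) z
    exact ⟨j a ''ᵁ W, _, ⟨z, hz, rfl⟩, gen_pbSec_symm (j a) G.glued (gen_of_iso (e a).symm hs)⟩
  exact ⟨cls hM, fun a => (pull_cls _ hM).trans (((cls_eq_cls _ _).2 ⟨e a⟩).trans (hd a))⟩

/-- Base changes of the pieces of a coproduct. -/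
theorem isDisjointUnion_of_isPullback {ι : Type u} {W : ι → Scheme.{u}} {Y : Scheme.{u}} {Zs : ι → Scheme.{u}}
    (q : Y ⟶ ∐ W) {j : ∀ i, Zs i ⟶ Y} [∀ i, IsOpenImmersion (j i)] {p : ∀ i, Zs i ⟶ W i}
    (h : ∀ i, IsPullback (j i) (p i) q (Sigma.ι W i)) : IsDisjointUnion j := by
  refine ⟨fun i k a b hab => ?_, fun y => ?_⟩
  · have e : ∀ i a, q (j i a) = Sigma.ι W i (p i a) := fun i a => by
      rw [← Scheme.Hom.comp_apply, (h i).w, Scheme.Hom.comp_apply]
    have h1 := congrArg q hab
    rw [e, e] at h1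
    exact (Sigma.mk.inj ((sigmaι_eq_iff _ _ _ _ _).mp h1)).1
  · obtain ⟨⟨i, v⟩, hv⟩ := (sigmaMk W).surjective (q y)
    rw [sigmaMk_mk] at hv
    obtain ⟨z, hz, -⟩ := Scheme.Pullback.exists_preimage_pullback y v hv.symm
    exact ⟨i, (h i).isoPullback.inv z, by rw [← Scheme.Hom.comp_apply, IsPullback.isoPullback_inv_fst]; exact hz⟩

end Groth.Agent.InvDescLib
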