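import Groth.Agent.InvDescLib.Cover
import Groth.Agent.ParaFLib.Cocycle
import Groth.Agent.ParaFLib.Glue
import Groth.Agent.ParaFLib.GenExt

/-!
# Effectivity of descent for rigidified invertible modules
-/

set_option autoImplicit false
set_option backward.isDefEq.respectTransparency false
set_option linter.style.haveILetI false

universe u

open CategoryTheory CategoryTheory.Limits AlgebraicGeometry TopologicalSpace
open Groth.Agent.SchDesc Groth.Agent.ParaFLib Groth.Agent.PullbackMod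

noncomputable section

namespace Groth.Agent.InvDescLib

variable {X' X : Scheme.{u}} {g : X' ⟶ X} {L : X'.Modules} [IsFpqc g]

/-- Invariant frames over a neighbourhood of every point of the base. -/
theorem exists_invariant_frame (hL : PicF.IsInvertible L) {P : Datum g L} (hP : P.IsCocycle) (y : X) :
    ∃ D : X.Opens, y ∈ D ∧ ∃ G : Frame L, G.O = g ⁻¹ᵁ D ∧
      ∀ (T : Scheme.{u}) (a b : T ⟶ X') (w : a ≫ g = b ≫ g) (ea : ∀ z, a z ∈ G.O) (eb : ∀ z, b z ∈ G.O),
        P.val G G a b w ea eb = 1 := by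
  obtain ⟨Fr, hFr⟩ := exists_frame hL
  obtain ⟨D, hyD, k, hk, hkeq⟩ := exists_scales hP Fr hFr y
  let N : TopCat.Sheaf Ab.{u} X'.carrier := ⟨L.presheaf, L.isSheaf⟩
  let O : X' → X'.Opens := fun x => (Fr x).O ⊓ g ⁻¹ᵁ D
  let s : ∀ x, Γ(L, O x) := fun x => k x • L.presheaf.map (homOfLE (inf_le_left : O x ≤ (Fr x).O)).op (Fr x).t
  have hcov : g ⁻¹ᵁ D ≤ iSup O := fun z hz => Opens.mem_iSup.2 ⟨z, hFr z, hz⟩
  obtain ⟨τ, hτ, -⟩ := N.existsUnique_gluing' O (g ⁻¹ᵁ D) (fun x => homOfLE inf_le_right) hcov s fun x x' => by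
    let I := O x ⊓ O x'
    have h₁ : I ≤ O x := inf_le_left
    have h₂ : I ≤ O x' := inf_le_right
    have h₃ : I ≤ (Fr x).O ⊓ (Fr x').O := fun z hz => ⟨hz.1.1, hz.2.1⟩
    obtain ⟨d, hd, -⟩ := exists_transition (Fr x) (Fr x')
    show L.presheaf.map (homOfLE h₁).op (s x) = L.presheaf.map (homOfLE h₂).op (s x')
    simp only [s]
    rw [Scheme.Modules.map_smul, Scheme.Modules.map_smul,
      show L.presheaf.map (homOfLE h₁).op (L.presheaf.map (homOfLE (inf_le_left : O x ≤ (Fr x).O)).op (Fr x).t) =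
        L.presheaf.map (homOfLE (h₁.trans inf_le_left : I ≤ (Fr x).O)).op (Fr x).t from ParaFLib.res_res _ _ _,
      show L.presheaf.map (homOfLE h₂).op (L.presheaf.map (homOfLE (inf_le_left : O x' ≤ (Fr x').O)).op (Fr x').t) =
        L.presheaf.map (homOfLE (h₂.trans inf_le_left : I ≤ (Fr x').O)).op (Fr x').t from ParaFLib.res_res _ _ _]
    have hd' := congrArg (L.presheaf.map (homOfLE h₃).op) hd
    rw [Scheme.Modules.map_smul, ParaFLib.res_res, ParaFLib.res_res] at hd'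
    rw [← hd', ← mul_smul]
    congr 1
    refine ev_injective fun T a e => ?_
    have w : a ≫ g = a ≫ g := rfl
    have h5 := hkeq x x' T a a w (fun z => h₁ (e z)) (fun z => h₂ (e z))
    have h6 := hP.transition (Fr x) (Fr x') hd a w (fun z => (h₁ (e z)).1) (fun z => (h₂ (e z)).1)
    rw [map_mul, ev_res, ev_res, ev_res, ← h5]
    calc _ = ev a (fun z => h₁ (e z)) (k x) * 1 := (_root_.mul_one _).symm
      _ = _ := by rw [← h6]; ring
  have hgen : Gen (g ⁻¹ᵁ D) τ := gen_of_cover O (fun x => inf_le_right) hcov fun x => by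
    rw [show L.presheaf.map (homOfLE (inf_le_right : O x ≤ g ⁻¹ᵁ D)).op τ = s x from hτ x]
    exact ((Fr x).gen.res _).smul (hk x)
  let G : Frame L := ⟨g ⁻¹ᵁ D, τ, hgen⟩
  refine ⟨D, hyD, G, rfl, fun T a b w ea eb => ?_⟩
  refine eq_of_forall_restrict (fun i : ↥X' × ↥X' => a ⁻¹ᵁ O i.1 ⊓ b ⁻¹ᵁ O i.2)
    (iSup_eq_top _ fun z => ⟨(a z, b z), ⟨hFr _, ea z⟩, ⟨hFr _, eb z⟩⟩) fun i => ?_
  let j := (a ⁻¹ᵁ O i.1 ⊓ b ⁻¹ᵁ O i.2).ι
  have w' : (j ≫ a) ≫ g = (j ≫ b) ≫ g := by rw [Category.assoc, w, Category.assoc]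
  rw [map_one, P.natural G G j a b w ea eb _ _ rfl rfl w' (fun z => ea _) (fun z => eb _)]
  have hc : ∀ x : X', X'.presheaf.map (homOfLE (le_refl _ : (Fr x).O ⊓ G.O ≤ O x)).op (k x) •
      L.presheaf.map (homOfLE inf_le_left).op (Fr x).t = L.presheaf.map (homOfLE inf_le_right).op G.t := fun x => by
    refine Eq.trans ?_ (hτ x).symm
    show X'.presheaf.map (homOfLE _).op (k x) • _ = s x
    rw [show X'.presheaf.map (homOfLE (le_refl (O x))).op (k x) = k x from
      ConcreteCategory.congr_hom (X'.presheaf.map_id _) _]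
  have h1 := P.change (Fr i.1) G (Fr i.2) G _ _ (hc i.1) (hc i.2) (j ≫ a) (j ≫ b) w' (fun z => z.2.1.1) (fun z => ea _)
    (fun z => z.2.2.1) (fun z => eb _)
  rw [ev_res, ev_res, _root_.mul_comm (ev (j ≫ a) _ _), hkeq i.1 i.2 _ (j ≫ a) (j ≫ b) w' (fun z => z.2.1) (fun z => z.2.2)] at h1
  exact (((hk i.2).map (ev (j ≫ b) fun z => (z.2.2 : (j ≫ b) z ∈ O i.2)))).mul_right_cancel
    (h1.trans (_root_.one_mul _).symm)

/-- A module with a cocycle of frames comes from the base. -/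
theorem exists_descended (hL : PicF.IsInvertible L) {P : Datum g L} (hP : P.IsCocycle) :
    ∃ M : X.Modules, PicF.IsInvertible M ∧ Nonempty ((Scheme.Modules.pullback g).obj M ≅ L) := by
  choose D hyD G hG hinv using exists_invariant_frame hL hP
  let τ : ∀ y, Γ(L, g ⁻¹ᵁ D y) := fun y => L.presheaf.map (homOfLE (hG y).ge).op (G y).t
  have hτ : ∀ y, Gen (g ⁻¹ᵁ D y) (τ y) := fun y => (G y).gen.res _
  have hη : ∀ y y' : X, ∃ c : Γ(X, D y ⊓ D y'), IsUnit c ∧
      (show Γ(X', g ⁻¹ᵁ D y ⊓ g ⁻¹ᵁ D y') from g.app (D y ⊓ D y') c) • L.presheaf.map (homOfLE (inf_le_right : g ⁻¹ᵁ D y ⊓ g ⁻¹ᵁ D y' ≤ g ⁻¹ᵁ D y')).op (τ y') =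
        L.presheaf.map (homOfLE (inf_le_left : g ⁻¹ᵁ D y ⊓ g ⁻¹ᵁ D y' ≤ g ⁻¹ᵁ D y)).op (τ y) := by
    intro y y'
    obtain ⟨d, hd, hdu⟩ := exists_transition (G y') (G y)
    have hle : g ⁻¹ᵁ (D y ⊓ D y') ≤ (G y').O ⊓ (G y).O := fun z hz => ⟨(hG y').ge hz.2, (hG y).ge hz.1⟩
    obtain ⟨c, hc⟩ := exists_fun g (X'.presheaf.map (homOfLE hle).op d) fun T a b ea eb w => by
      have h1 := P.change (G y') (G y) (G y') (G y) d d hd hd a b w (fun z => (hle (ea z)).1) (fun z => (hle (ea z)).2)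
        (fun z => (hle (eb z)).1) (fun z => (hle (eb z)).2)
      rw [hinv y T a b w, hinv y' T a b w, _root_.one_mul, _root_.mul_one] at h1
      rw [ev_res, ev_res]
      exact h1.symm
    refine ⟨c, ?_, ?_⟩
    · refine RingedSpace.isUnit_of_isUnit_germ _ _ c fun x hx => ?_
      obtain ⟨z, rfl⟩ := g.surjective x
      have h1 : z ∈ X'.basicOpen (g.app _ c) := by
        rw [hc]
        exact (X'.toRingedSpace.mem_basicOpen _ z hx).2 ((hdu.map _).map _)
      rw [← Scheme.preimage_basicOpen] at h1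
      exact (X.toRingedSpace.mem_basicOpen c (g z) hx).1 h1
    · rw [hc]
      have hd' := congrArg (L.presheaf.map (homOfLE hle).op) hd
      rw [Scheme.Modules.map_smul, ParaFLib.res_res, ParaFLib.res_res] at hd'
      simp only [τ, ParaFLib.res_res]
      exact hd'
  choose c hcu hc using hη
  let η : ∀ y y' : X, (Γ(X, D y ⊓ D y'))ˣ := fun y y' => (hcu y y').unit
  have hco : ParaFLib.IsCocycle D η := by
    intro i j l
    apply app_injective g
    refine gen_inj ((hτ l).res (g.preimage_mono (inf_le_right : D i ⊓ D j ⊓ D l ≤ D l))) ?_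
    have nat : ∀ {U V : X.Opens} (h : V ≤ U) (r : Γ(X, U)),
        g.app V (X.presheaf.map (homOfLE h).op r) = X'.presheaf.map (homOfLE (g.preimage_mono h)).op (g.app U r) :=
      fun {U V} h r => ConcreteCategory.congr_hom (g.naturality (homOfLE h).op) r
    rw [map_mul, nat, nat, nat, mul_smul]
    have e : ∀ (p q : X) (hpq : g ⁻¹ᵁ (D i ⊓ D j ⊓ D l) ≤ g ⁻¹ᵁ D p ⊓ g ⁻¹ᵁ D q),
        X'.presheaf.map (homOfLE hpq).op (g.app _ (c p q)) •
          L.presheaf.map (homOfLE (hpq.trans inf_le_right)).op (τ q) =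
        L.presheaf.map (homOfLE (hpq.trans inf_le_left)).op (τ p) := fun p q hpq => by
      refine Eq.trans (Eq.symm ?_) ((congrArg (L.presheaf.map (homOfLE hpq).op) (hc p q)).trans
        (ParaFLib.res_res inf_le_left hpq (τ p)))
      exact (Scheme.Modules.map_smul L _ _ _).trans (congrArg (_ • ·) (ParaFLib.res_res inf_le_right hpq (τ q)))
    show X'.presheaf.map _ (g.app _ (c i l)) • _ = X'.presheaf.map _ (g.app _ (c i j)) • X'.presheaf.map _ (g.app _ (c j l)) • _
    refine (e i l (le_inf (g.preimage_mono (inf_le_left.trans inf_le_left)) (g.preimage_mono inf_le_right))).trans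
      ((e i j (le_inf (g.preimage_mono (inf_le_left.trans inf_le_left)) (g.preimage_mono (inf_le_left.trans inf_le_right)))).symm.trans
        (congrArg (_ • ·) (e j l (le_inf (g.preimage_mono (inf_le_left.trans inf_le_right)) (g.preimage_mono inf_le_right))).symm))
  have hcov : iSup D = ⊤ := iSup_eq_top _ fun y => ⟨y, hyD y⟩
  obtain ⟨M, s, hM, hs, hst⟩ := exists_invertible_of_cocycle D η hcov hco
  refine ⟨M, hM, nonempty_iso_of_bases (U := fun y => g ⁻¹ᵁ D y) (s := fun y => pullMap g M le_rfl (s y)) (t := τ)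
    (iSup_eq_top _ fun z => ⟨g z, hyD (g z)⟩) (fun y => AmpleEmb.gen_pullMap g hM (hs y)) hτ
    (fun y y' => g.app (D y ⊓ D y') (c y y')) (fun y y' => ?_) (fun y y' => (hc y y').symm)⟩
  have h1 : D y ⊓ D y' ≤ D y := inf_le_left
  have h2 : D y ⊓ D y' ≤ D y' := inf_le_right
  have := pullMap_res g M le_rfl h1 (g.preimage_mono h1) le_rfl (s y)
  refine this.trans ?_
  rw [hst y y', pullMap_smul, ← pullMap_res g M le_rfl h2 (g.preimage_mono h2) le_rfl (s y'), Scheme.Hom.app_eq_appLE]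
  rfl

end Groth.Agent.InvDescLib
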