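import Mathlib

/-!
# Constants after flat base change
-/

set_option autoImplicit false
set_option backward.isDefEq.respectTransparency false
set_option linter.style.haveILetI false

universe u

open CategoryTheory CategoryTheory.Limits AlgebraicGeometry TopologicalSpace Opposite

noncomputable section

namespace Groth.Agent.InvDescLib

variable {X S : Scheme.{u}}

/-- `f_* O = O` after every flat base change. -/
def FlatConst (f : X ⟶ S) : Prop :=
  ∀ (T : Scheme.{u}) (t : T ⟶ S) [Flat t] (U : T.Opens), IsIso ((pullback.snd f t).app U)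

/-- Sections of a quasi-compact quasi-separated morphism commute with flat base change. -/
theorem flatConst_of_bijective (f : X ⟶ S) [QuasiCompact f] [QuasiSeparated f]
    (hf : ∀ U : S.Opens, Function.Bijective (f.app U)) : FlatConst f := by
  intro T t _ U
  let q := pullback.snd f t
  let ι := {T₀ : T.Opens // IsAffineOpen T₀ ∧ ∃ W : S.Opens, IsAffineOpen W ∧ T₀ ≤ t ⁻¹ᵁ W}
  have hB : Opens.IsBasis (Set.range (Subtype.val : ι → T.Opens)) := by
    rw [Opens.isBasis_iff_nbhd]
    intro O z hz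
    obtain ⟨_, ⟨W : S.Opens, (hW : IsAffineOpen W), rfl⟩, hzW, -⟩ :=
      S.isBasis_affineOpens.exists_subset_of_mem_open (Set.mem_univ (t z)) isOpen_univ
    obtain ⟨_, ⟨T₀ : T.Opens, (hT₀ : IsAffineOpen T₀), rfl⟩, hz₀, hle⟩ :=
      T.isBasis_affineOpens.exists_subset_of_mem_open
        (show z ∈ ((O ⊓ t ⁻¹ᵁ W : T.Opens) : Set T) from ⟨hz, hzW⟩) (Opens.isOpen _)
    exact ⟨T₀, ⟨⟨T₀, hT₀, W, hW, fun y hy => (hle hy).2⟩, rfl⟩, hz₀, fun y hy => (hle hy).1⟩
  let ψ : T.sheaf ⟶ (TopCat.Sheaf.pushforward CommRingCat q.base).obj (pullback f t).sheaf := ⟨q.c⟩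
  haveI hψ : IsIso ψ := TopCat.Sheaf.isIso_iff_isIso_basis hB fun i => by
    obtain ⟨T₀, hT₀, W, hW, hle⟩ := i
    have hUY : q ⁻¹ᵁ T₀ = pullback.fst f t ⁻¹ᵁ (f ⁻¹ᵁ W) ⊓ q ⁻¹ᵁ T₀ :=
      le_antisymm (le_inf (fun z hz => by
        show f (pullback.fst f t z) ∈ W
        rw [← Scheme.Hom.comp_apply, pullback.condition, Scheme.Hom.comp_apply]
        exact hle hz) le_rfl) inf_le_right
    haveI hiso := isIso_pushoutSection_of_isQuasiSeparated_of_flat_right (IsPullback.of_hasPullback f t) hle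
      (le_refl (f ⁻¹ᵁ W)) hUY hW hT₀
      (QuasiCompact.isCompact_preimage (f := f) _ W.2 hW.isCompact)
      (f.isQuasiSeparated_preimage hW.isQuasiSeparated)
    have hp := (isIso_pushoutSection_iff (IsPullback.of_hasPullback f t) hle (le_refl (f ⁻¹ᵁ W)) hUY).1 hiso
    haveI : IsIso (f.appLE W (f ⁻¹ᵁ W) le_rfl) := by
      rw [← Scheme.Hom.app_eq_appLE]
      exact (ConcreteCategory.isIso_iff_bijective _).2 (hf W)
    haveI := hp.isIso_inr_of_isIso
    show IsIso (q.app T₀)
    rw [Scheme.Hom.app_eq_appLE]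
    infer_instance
  haveI : IsIso ψ.hom := (ObjectProperty.ι _).map_isIso ψ
  exact NatIso.isIso_app_of_isIso ψ.hom (op U)

theorem FlatConst.bijective {f : X ⟶ S} (ha : FlatConst f) {T : Scheme.{u}} (t : T ⟶ S) [Flat t] :
    Function.Bijective (pullback.snd f t).appTop := by
  haveI : IsIso ((pullback.snd f t).app ⊤) := ha T t ⊤
  exact ConcreteCategory.bijective_of_isIso ((pullback.snd f t).app ⊤)

theorem FlatConst.bijective_app {f : X ⟶ S} (ha : FlatConst f) (U : S.Opens) : Function.Bijective (f.app U) := by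
  haveI : IsIso ((pullback.snd f (𝟙 S)).app U) := ha S (𝟙 S) U
  haveI : IsIso (pullback.fst f (𝟙 S)) := inferInstance
  have e : f = inv (pullback.fst f (𝟙 S)) ≫ pullback.snd f (𝟙 S) := by
    rw [IsIso.eq_inv_comp, pullback.condition, Category.comp_id]
  rw [e, Scheme.Hom.comp_app]
  exact ConcreteCategory.bijective_of_isIso _

end Groth.Agent.InvDescLib
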