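import Groth.Agent.InvDescLib.Normalise
import Groth.Agent.InvDescLib.FlatConst

/-!
# Normalised cocycles, flat version
-/

set_option autoImplicit false
set_option backward.isDefEq.respectTransparency false
set_option linter.style.haveILetI false

universe u

open CategoryTheory CategoryTheory.Limits AlgebraicGeometry TopologicalSpace
open Groth.Agent.SchDesc Groth.Agent.ParaFLib Groth.Agent.PullbackMod

noncomputable section

namespace Groth.Agent.InvDescLib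

variable {X S S' : Scheme.{u}} {f : X ⟶ S} {h : S' ⟶ S}

/-- Normalise a datum along a section. -/
theorem exists_cocycle_flat [Flat h] (ha : FlatConst f) (σ : S ⟶ X) (hσ : σ ≫ f = 𝟙 S) {L : (pullback f h).Modules}
    (hL : PicF.IsInvertible L) (σ' : S' ⟶ pullback f h) (hσ'g : σ' ≫ pullback.fst f h = h ≫ σ)
    (hσ'π : σ' ≫ pullback.snd f h = 𝟙 S') (hrig : CubeLib.Triv ((Scheme.Modules.pullback σ').obj L))
    (θ : (Scheme.Modules.pullback (pullback.fst (pullback.fst f h) (pullback.fst f h))).obj L ≅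
      (Scheme.Modules.pullback (pullback.snd (pullback.fst f h) (pullback.fst f h))).obj L) :
    ∃ P : Datum (pullback.fst f h) L, P.IsCocycle := by
  let g := pullback.fst f h
  let π := pullback.snd f h
  obtain ⟨Q⟩ := exists_datum g hL θ
  obtain ⟨Fr, hFr⟩ := exists_frame hL
  obtain ⟨ε, hε⟩ := hrig
  choose r hr hru using fun F : Frame L => exists_coef σ' hL (le_top : F.O ≤ ⊤) F.gen (σ := ε) hε
  have hσg : ∀ {T : Scheme.{u}} (e₁ e₂ : T ⟶ S'), e₁ ≫ h = e₂ ≫ h → (e₁ ≫ σ') ≫ g = (e₂ ≫ σ') ≫ g := fun e₁ e₂ w => by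
    rw [Category.assoc, Category.assoc, hσ'g, reassoc_of% w]
  have hπh : ∀ {T : Scheme.{u}} {a b : T ⟶ pullback f h}, a ≫ g = b ≫ g → (a ≫ π) ≫ h = (b ≫ π) ≫ h := fun w => by
    rw [Category.assoc, Category.assoc, ← pullback.condition, reassoc_of% w]
  -- independence of the frames of the value along the section
  have hind : ∀ (F G F' G' : Frame L) {T : Scheme.{u}} (e₁ e₂ : T ⟶ S') (w : e₁ ≫ h = e₂ ≫ h)
      (ea : ∀ z, (e₁ ≫ σ') z ∈ F.O) (eb : ∀ z, (e₂ ≫ σ') z ∈ G.O)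
      (ea' : ∀ z, (e₁ ≫ σ') z ∈ F'.O) (eb' : ∀ z, (e₂ ≫ σ') z ∈ G'.O) (ν : Γ(T, ⊤)),
      ν * ev e₂ eb (r G) = Q.val F G _ _ (hσg e₁ e₂ w) ea eb * ev e₁ ea (r F) →
      ν * ev e₂ eb' (r G') = Q.val F' G' _ _ (hσg e₁ e₂ w) ea' eb' * ev e₁ ea' (r F') := by
    intro F G F' G' T e₁ e₂ w ea eb ea' eb' ν hν
    obtain ⟨c, hc, hcu⟩ := exists_transition F F'
    obtain ⟨d, hd, hdu⟩ := exists_transition G G'
    have h1 := Q.change F F' G G' c d hc hd _ _ (hσg e₁ e₂ w) ea ea' eb eb'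
    rw [coef_congr σ' hL hc (hr F) (hr F') e₁ ea ea', coef_congr σ' hL hd (hr G) (hr G') e₂ eb eb'] at hν
    refine (hdu.map (ev (e₂ ≫ σ') fun z => (⟨eb z, eb' z⟩ : (e₂ ≫ σ') z ∈ G.O ⊓ G'.O))).mul_right_cancel ?_
    rw [mul_right_comm (Q.val F' G' _ _ _ ea' eb'), h1, mul_assoc, hν]
    ring
  let p₁ := pullback.fst h h
  let p₂ := pullback.snd h h
  let Ω : ↥(pullback f h) × ↥(pullback f h) → (pullback h h).Opens := fun i =>
    (p₁ ≫ σ') ⁻¹ᵁ (Fr i.1).O ⊓ (p₂ ≫ σ') ⁻¹ᵁ (Fr i.2).O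
  have hp : p₁ ≫ h = p₂ ≫ h := pullback.condition
  have eΩ₁ : ∀ i z, (((Ω i).ι ≫ p₁) ≫ σ') z ∈ (Fr i.1).O := fun i z => z.2.1
  have eΩ₂ : ∀ i z, (((Ω i).ι ≫ p₂) ≫ σ') z ∈ (Fr i.2).O := fun i z => z.2.2
  have hpi : ∀ i, ((Ω i).ι ≫ p₁) ≫ h = ((Ω i).ι ≫ p₂) ≫ h := fun i => by rw [Category.assoc, hp, Category.assoc]
  let num : ∀ i, Γ((Ω i : Scheme.{u}), ⊤) := fun i =>
    Q.val _ _ _ _ (hσg _ _ (hpi i)) (eΩ₁ i) (eΩ₂ i) * ev ((Ω i).ι ≫ p₁) (eΩ₁ i) (r (Fr i.1))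
  have hden : ∀ i, IsUnit (ev ((Ω i).ι ≫ p₂) (eΩ₂ i) (r (Fr i.2))) := fun i => (hru _).map _
  obtain ⟨ν, hν⟩ := exists_glue_points Ω (iSup_eq_top _ fun z => ⟨((p₁ ≫ σ') z, (p₂ ≫ σ') z), hFr _, hFr _⟩)
    (fun i => num i * ↑(hden i).unit⁻¹) fun i j T p q hpq => by
      have key : ∀ (i : ↥(pullback f h) × ↥(pullback f h)) (m : T ⟶ (Ω i : Scheme.{u})) (e₁ e₂ : T ⟶ S') (h₁ : m ≫ (Ω i).ι ≫ p₁ = e₁)
          (h₂ : m ≫ (Ω i).ι ≫ p₂ = e₂) (w : e₁ ≫ h = e₂ ≫ h) (ea : ∀ z, (e₁ ≫ σ') z ∈ (Fr i.1).O)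
          (eb : ∀ z, (e₂ ≫ σ') z ∈ (Fr i.2).O),
          m.appTop (num i * ↑(hden i).unit⁻¹) * ev e₂ eb (r (Fr i.2)) =
            Q.val (Fr i.1) (Fr i.2) _ _ (hσg e₁ e₂ w) ea eb * ev e₁ ea (r (Fr i.1)) := by
        intro i m e₁ e₂ h₁ h₂ w ea eb
        subst h₁ h₂
        rw [ev_comp m ((Ω i).ι ≫ p₂) (eΩ₂ i), ← map_mul, mul_assoc, IsUnit.val_inv_mul, _root_.mul_one]
        simp only [num]
        rw [map_mul, ev_comp m ((Ω i).ι ≫ p₁) (eΩ₁ i)]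
        rw [Q.natural _ _ m _ _ (hσg _ _ (hpi i)) (eΩ₁ i) (eΩ₂ i) _ _ (Category.assoc _ _ _).symm
          (Category.assoc _ _ _).symm (hσg _ _ w) ea eb]
      have w : (p ≫ (Ω i).ι ≫ p₁) ≫ h = (p ≫ (Ω i).ι ≫ p₂) ≫ h := by simp only [Category.assoc, hp]
      have hi := key i p _ _ rfl rfl w (fun z => eΩ₁ i (p z)) (fun z => eΩ₂ i (p z))
      have hj := key j q _ _ (by rw [← Category.assoc, ← hpq, Category.assoc]) (by rw [← Category.assoc, ← hpq, Category.assoc])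
        w (fun z => by
          show ((p ≫ (Ω i).ι ≫ p₁) ≫ σ') z ∈ _
          rw [← Category.assoc p, hpq, Category.assoc q]; exact eΩ₁ j (q z)) (fun z => by
          show ((p ≫ (Ω i).ι ≫ p₂) ≫ σ') z ∈ _
          rw [← Category.assoc p, hpq, Category.assoc q]; exact eΩ₂ j (q z))
      exact ((hru (Fr j.2)).map _).mul_right_cancel ((hind _ _ _ _ _ _ w _ _ _ _ _ hi).trans hj.symm)
  have hνu : IsUnit ν := by
    refine RingedSpace.isUnit_of_isUnit_germ _ _ ν fun z _ => ?_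
    let i : ↥(pullback f h) × ↥(pullback f h) := ((p₁ ≫ σ') z, (p₂ ≫ σ') z)
    have h1 : IsUnit ((Ω i).ι.appTop ν) := by
      rw [hν i]
      exact ((Q.unit _ _ _ _ _ _ _).mul ((hru _).map _)).mul ⟨_, rfl⟩
    have h2 : (⟨z, hFr _, hFr _⟩ : Ω i) ∈ (Ω i : Scheme.{u}).basicOpen ((Ω i).ι.appTop ν) := by
      rw [Scheme.mem_basicOpen_top]; exact h1.map _
    rw [← Scheme.preimage_basicOpen_top] at h2
    exact (Scheme.mem_basicOpen_top (pullback h h) ν z).1 h2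
  have hνv : ∀ (F G : Frame L) {T : Scheme.{u}} (e₁ e₂ : T ⟶ S') (w : e₁ ≫ h = e₂ ≫ h)
      (ea : ∀ z, (e₁ ≫ σ') z ∈ F.O) (eb : ∀ z, (e₂ ≫ σ') z ∈ G.O),
      val2 h ν e₁ e₂ w * ev e₂ eb (r G) = Q.val F G _ _ (hσg e₁ e₂ w) ea eb * ev e₁ ea (r F) := by
    intro F G T e₁ e₂ w ea eb
    let l := pullback.lift e₁ e₂ w
    refine eq_of_forall_restrict (fun i => l ⁻¹ᵁ Ω i)
      (iSup_eq_top _ fun z => ⟨((p₁ ≫ σ') (l z), (p₂ ≫ σ') (l z)), hFr _, hFr _⟩) fun i => ?_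
    let j := (l ⁻¹ᵁ Ω i).ι
    let m : (l ⁻¹ᵁ Ω i : Scheme.{u}) ⟶ (Ω i : Scheme.{u}) := l ∣_ Ω i
    have hm : m ≫ (Ω i).ι = j ≫ l := morphismRestrict_ι _ _
    have hm₁ : m ≫ (Ω i).ι ≫ p₁ = j ≫ e₁ := by rw [reassoc_of% hm]; simp [l, p₁]
    have hm₂ : m ≫ (Ω i).ι ≫ p₂ = j ≫ e₂ := by rw [reassoc_of% hm]; simp [l, p₂]
    have w' : (j ≫ e₁) ≫ h = (j ≫ e₂) ≫ h := by rw [Category.assoc, w, Category.assoc]
    rw [map_mul, map_mul, val2_comp h ν j e₁ e₂ w _ _ rfl rfl w', ← ev_comp j e₂ eb (fun z => eb _),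
      ← ev_comp j e₁ ea (fun z => ea _), Q.natural F G j _ _ (hσg e₁ e₂ w) ea eb _ _
        (Category.assoc _ _ _).symm (Category.assoc _ _ _).symm (hσg _ _ w') (fun z => ea _) (fun z => eb _)]
    have hei : ∀ z, ((j ≫ e₁) ≫ σ') z ∈ (Fr i.1).O := fun z => by rw [← hm₁]; exact eΩ₁ i (m z)
    have hej : ∀ z, ((j ≫ e₂) ≫ σ') z ∈ (Fr i.2).O := fun z => by rw [← hm₂]; exact eΩ₂ i (m z)
    refine hind (Fr i.1) (Fr i.2) F G _ _ w' hei hej _ _ _ ?_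
    have hv : val2 h ν (j ≫ e₁) (j ≫ e₂) w' = m.appTop ((Ω i).ι.appTop ν) := by
      rw [val2, ← CommRingCat.comp_apply, ← Scheme.Hom.comp_appTop, hm]
      rw [show pullback.lift (j ≫ e₁) (j ≫ e₂) w' = j ≫ l by apply pullback.hom_ext <;> simp [l]]
    rw [hv, hν i, map_mul, ← ev_congr hm₂ (fun z => eΩ₂ i (m z)) hej, ev_comp m ((Ω i).ι ≫ p₂) (eΩ₂ i), mul_assoc,
      ← map_mul m.appTop.hom, IsUnit.val_inv_mul, map_one, _root_.mul_one]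
    simp only [num]
    rw [map_mul, ← ev_comp m ((Ω i).ι ≫ p₁) (eΩ₁ i) (fun z => eΩ₁ i (m z)), ev_congr hm₁ (fun z => eΩ₁ i (m z)) hei]
    rw [Q.natural _ _ m _ _ (hσg _ _ (hpi i)) (eΩ₁ i) (eΩ₂ i) ((j ≫ e₁) ≫ σ') ((j ≫ e₂) ≫ σ')
      (by rw [← Category.assoc, hm₁]) (by rw [← Category.assoc, hm₂]) (hσg _ _ w') hei hej]
  obtain ⟨M, hM⟩ := hνu.exists_right_inv
  have hMu : IsUnit M := IsUnit.of_mul_eq_one ν (by rw [_root_.mul_comm, hM])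
  let P : Datum g L :=
    { val := fun F G {T} a b w ea eb => Q.val F G a b w ea eb * val2 h M (a ≫ π) (b ≫ π) (hπh w)
      unit := fun F G {T} a b w ea eb => (Q.unit F G a b w ea eb).mul (isUnit_val2 h hMu _ _ _)
      natural := fun F G {T' T} m a b w ea eb a' b' ha hb w' ea' eb' => by
        rw [map_mul, Q.natural F G m a b w ea eb a' b' ha hb w' ea' eb',
          val2_comp h M m _ _ (hπh w) (a' ≫ π) (b' ≫ π) (by rw [← ha, Category.assoc]) (by rw [← hb, Category.assoc]) (hπh w')]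
      change := fun F F' G G' c d hc hd {T} a b w ea ea' eb eb' => by
        rw [mul_right_comm, Q.change F F' G G' c d hc hd a b w ea ea' eb eb', mul_assoc] }
  have hnorm : ∀ (F G : Frame L) {T : Scheme.{u}} (e₁ e₂ : T ⟶ S') (a b : T ⟶ pullback f h) (_ : e₁ ≫ σ' = a)
      (_ : e₂ ≫ σ' = b) (w : a ≫ g = b ≫ g) (ea : ∀ z, a z ∈ F.O) (eb : ∀ z, b z ∈ G.O)
      (ea' : ∀ z, e₁ z ∈ σ' ⁻¹ᵁ F.O) (eb' : ∀ z, e₂ z ∈ σ' ⁻¹ᵁ G.O),
      P.val F G a b w ea eb * ev e₁ ea' (r F) = ev e₂ eb' (r G) := by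
    intro F G T e₁ e₂ a b hea heb w ea eb ea' eb'
    subst hea heb
    have we : e₁ ≫ h = e₂ ≫ h := by
      have h2 := hπh w
      simp only [Category.assoc] at h2
      simpa only [show σ' ≫ π ≫ h = h by rw [← Category.assoc, hσ'π, Category.id_comp]] using h2
    show Q.val F G _ _ w ea eb * val2 h M _ _ _ * _ = _
    rw [mul_right_comm, ← hνv F G e₁ e₂ we ea eb, mul_right_comm]
    have e0 : ∀ (a' b' : T ⟶ S') (w' : a' ≫ h = b' ≫ h), a' = e₁ → b' = e₂ →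
        val2 h ν e₁ e₂ we * val2 h M a' b' w' = 1 := by
      rintro _ _ w' rfl rfl
      rw [val2, val2, ← map_mul, hM, map_one]
    rw [e0 _ _ _ (by rw [Category.assoc, hσ'π, Category.comp_id]) (by rw [Category.assoc, hσ'π, Category.comp_id]),
      _root_.one_mul]
  refine ⟨P, ?_⟩
  -- the defect is independent of the frames
  have hdef : ∀ (F G H F' G' H' : Frame L) {T : Scheme.{u}} (a b c : T ⟶ pullback f h) (w₁ : a ≫ g = b ≫ g)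
      (w₂ : b ≫ g = c ≫ g) (ea : ∀ z, a z ∈ F.O) (eb : ∀ z, b z ∈ G.O) (ec : ∀ z, c z ∈ H.O)
      (ea' : ∀ z, a z ∈ F'.O) (eb' : ∀ z, b z ∈ G'.O) (ec' : ∀ z, c z ∈ H'.O) (W : Γ(T, ⊤)),
      W * P.val F H a c (w₁.trans w₂) ea ec = P.val F G a b w₁ ea eb * P.val G H b c w₂ eb ec →
      W * P.val F' H' a c (w₁.trans w₂) ea' ec' = P.val F' G' a b w₁ ea' eb' * P.val G' H' b c w₂ eb' ec' := by
    intro F G H F' G' H' T a b c w₁ w₂ ea eb ec ea' eb' ec' W hW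
    obtain ⟨k₁, hk₁, -⟩ := exists_transition F F'
    obtain ⟨k₂, hk₂, hk₂u⟩ := exists_transition G G'
    obtain ⟨k₃, hk₃, hk₃u⟩ := exists_transition H H'
    have h13 := P.change F F' H H' k₁ k₃ hk₁ hk₃ a c (w₁.trans w₂) ea ea' ec ec'
    have h12 := P.change F F' G G' k₁ k₂ hk₁ hk₂ a b w₁ ea ea' eb eb'
    have h23 := P.change G G' H H' k₂ k₃ hk₂ hk₃ b c w₂ eb eb' ec ec'
    refine ((hk₂u.map (ev b fun z => (⟨eb z, eb' z⟩ : b z ∈ G.O ⊓ G'.O))).mul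
      (hk₃u.map (ev c fun z => (⟨ec z, ec' z⟩ : c z ∈ H.O ⊓ H'.O)))).mul_right_cancel ?_
    rw [mul_mul_mul_comm (P.val F' G' a b w₁ ea' eb'), h12, h23, mul_assoc W,
      mul_left_comm (P.val F' H' a c _ ea' ec'), h13, ← mul_assoc W, ← mul_assoc]
    rw [mul_right_comm W _ (ev a _ k₁), mul_assoc (W * _ ) _ (P.val F H a c _ ea ec)]
    calc _ = W * P.val F H a c (w₁.trans w₂) ea ec *
          (ev b (fun z => (⟨eb z, eb' z⟩ : b z ∈ G.O ⊓ G'.O)) k₂ * ev a (fun z => (⟨ea z, ea' z⟩ : a z ∈ F.O ⊓ F'.O)) k₁) := by ring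
      _ = _ := by rw [hW]; ring
  intro F G H T a b c w₁ w₂ ea eb ec
  -- spread the universal triple of points over the base change
  let pr := pullback.fst (pullback.snd h h) (pullback.fst h h)
  let qr := pullback.snd (pullback.snd h h) (pullback.fst h h)
  let a₀ := pr ≫ pullback.fst h h
  let b₀ := pr ≫ pullback.snd h h
  let c₀ := qr ≫ pullback.snd h h
  have hpq : pr ≫ pullback.snd h h = qr ≫ pullback.fst h h := pullback.condition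
  have hb₀ : b₀ ≫ h = a₀ ≫ h := by simp only [a₀, b₀, Category.assoc, pullback.condition]
  have hc₀ : c₀ ≫ h = a₀ ≫ h := by
    rw [← hb₀, show b₀ = qr ≫ pullback.fst h h from hpq]
    simp only [c₀, Category.assoc, pullback.condition]
  let t := a₀ ≫ h
  haveI : Flat t := inferInstance
  let q := pullback.snd f t
  let XT := pullback f t
  let lft : ∀ (e : pullback (pullback.snd h h) (pullback.fst h h) ⟶ S'), e ≫ h = t → (XT ⟶ pullback f h) := fun e he =>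
    pullback.lift (pullback.fst f t) (q ≫ e)
      (pullback.condition.trans ((congrArg (q ≫ ·) he.symm).trans (Category.assoc q e h).symm))
  let A := lft a₀ rfl
  let B := lft b₀ hb₀
  let C := lft c₀ hc₀
  have hAB : A ≫ g = B ≫ g := by simp only [A, B, lft, g, pullback.lift_fst]
  have hBC : B ≫ g = C ≫ g := by simp only [B, C, lft, g, pullback.lift_fst]
  let Θ : ↥(pullback f h) × ↥(pullback f h) × ↥(pullback f h) → XT.Opens := fun i =>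
    A ⁻¹ᵁ (Fr i.1).O ⊓ B ⁻¹ᵁ (Fr i.2.1).O ⊓ C ⁻¹ᵁ (Fr i.2.2).O
  have hΘ : iSup Θ = ⊤ := iSup_eq_top _ fun z => ⟨(A z, B z, C z), ⟨hFr _, hFr _⟩, hFr _⟩
  have hAB' : ∀ i, ((Θ i).ι ≫ A) ≫ g = ((Θ i).ι ≫ B) ≫ g := fun i => by rw [Category.assoc, hAB, Category.assoc]
  have hBC' : ∀ i, ((Θ i).ι ≫ B) ≫ g = ((Θ i).ι ≫ C) ≫ g := fun i => by rw [Category.assoc, hBC, Category.assoc]
  let top : ∀ i, Γ((Θ i : Scheme.{u}), ⊤) := fun i =>
    P.val (Fr i.1) (Fr i.2.1) _ _ (hAB' i) (fun z => z.2.1.1) (fun z => z.2.1.2) *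
      P.val (Fr i.2.1) (Fr i.2.2) _ _ (hBC' i) (fun z => z.2.1.2) (fun z => z.2.2)
  have hbot : ∀ i : ↥(pullback f h) × ↥(pullback f h) × ↥(pullback f h), IsUnit (P.val (Fr i.1) (Fr i.2.2) _ _ ((hAB' i).trans (hBC' i)) (fun z => z.2.1.1) (fun z => z.2.2)) :=
    fun i => P.unit _ _ _ _ _ _ _
  obtain ⟨W, hW⟩ := exists_glue_points Θ hΘ (fun i => top i * ↑(hbot i).unit⁻¹) fun i j T' p p' hpp => by
    have key : ∀ (i : ↥(pullback f h) × ↥(pullback f h) × ↥(pullback f h)) (m : T' ⟶ (Θ i : Scheme.{u})) (a' b' c' : T' ⟶ pullback f h)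
        (h₁ : m ≫ (Θ i).ι ≫ A = a') (h₂ : m ≫ (Θ i).ι ≫ B = b') (h₃ : m ≫ (Θ i).ι ≫ C = c') (u₁ : a' ≫ g = b' ≫ g)
        (u₂ : b' ≫ g = c' ≫ g) (ea : ∀ z, a' z ∈ (Fr i.1).O) (eb : ∀ z, b' z ∈ (Fr i.2.1).O) (ec : ∀ z, c' z ∈ (Fr i.2.2).O),
        m.appTop (top i * ↑(hbot i).unit⁻¹) * P.val (Fr i.1) (Fr i.2.2) a' c' (u₁.trans u₂) ea ec =
          P.val (Fr i.1) (Fr i.2.1) a' b' u₁ ea eb * P.val (Fr i.2.1) (Fr i.2.2) b' c' u₂ eb ec := by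
      intro i m a' b' c' h₁ h₂ h₃ u₁ u₂ ea eb ec
      rw [← P.natural _ _ m _ _ ((hAB' i).trans (hBC' i)) (fun z => z.2.1.1) (fun z => z.2.2) a' c' h₁ h₃ (u₁.trans u₂) ea ec,
        ← map_mul, mul_assoc, IsUnit.val_inv_mul, _root_.mul_one]
      simp only [top]
      rw [map_mul, P.natural _ _ m _ _ (hAB' i) (fun z => z.2.1.1) (fun z => z.2.1.2) a' b' h₁ h₂ u₁ ea eb,
        P.natural _ _ m _ _ (hBC' i) (fun z => z.2.1.2) (fun z => z.2.2) b' c' h₂ h₃ u₂ eb ec]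
    have u₁ : (p ≫ (Θ i).ι ≫ A) ≫ g = (p ≫ (Θ i).ι ≫ B) ≫ g := by simp only [Category.assoc, hAB]
    have u₂ : (p ≫ (Θ i).ι ≫ B) ≫ g = (p ≫ (Θ i).ι ≫ C) ≫ g := by simp only [Category.assoc, hBC]
    have hq : ∀ D : XT ⟶ pullback f h, p' ≫ (Θ j).ι ≫ D = p ≫ (Θ i).ι ≫ D := fun D => by
      rw [← Category.assoc, ← hpp, Category.assoc]
    have hi := key i p _ _ _ rfl rfl rfl u₁ u₂ (fun z => (p z).2.1.1) (fun z => (p z).2.1.2) (fun z => (p z).2.2)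
    have hj := key j p' _ _ _ (hq A) (hq B) (hq C) u₁ u₂ (fun z => by rw [← hq A]; exact (p' z).2.1.1)
      (fun z => by rw [← hq B]; exact (p' z).2.1.2) (fun z => by rw [← hq C]; exact (p' z).2.2)
    exact (P.unit _ _ _ _ _ _ _).mul_right_cancel ((hdef _ _ _ _ _ _ _ _ _ u₁ u₂ _ _ _ _ _ _ _ hi).trans hj.symm)
  have hWv : ∀ (F G H : Frame L) {T' : Scheme.{u}} (m : T' ⟶ XT) (a' b' c' : T' ⟶ pullback f h) (_ : m ≫ A = a')
      (_ : m ≫ B = b') (_ : m ≫ C = c') (u₁ : a' ≫ g = b' ≫ g) (u₂ : b' ≫ g = c' ≫ g)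
      (ea : ∀ z, a' z ∈ F.O) (eb : ∀ z, b' z ∈ G.O) (ec : ∀ z, c' z ∈ H.O),
      m.appTop W * P.val F H a' c' (u₁.trans u₂) ea ec = P.val F G a' b' u₁ ea eb * P.val G H b' c' u₂ eb ec := by
    intro F G H T' m a' b' c' h₁ h₂ h₃ u₁ u₂ ea eb ec
    refine eq_of_forall_restrict (fun i => m ⁻¹ᵁ Θ i)
      (iSup_eq_top _ fun z => ⟨(A (m z), B (m z), C (m z)), ⟨hFr _, hFr _⟩, hFr _⟩) fun i => ?_
    let j := (m ⁻¹ᵁ Θ i).ι
    let n : (m ⁻¹ᵁ Θ i : Scheme.{u}) ⟶ (Θ i : Scheme.{u}) := m ∣_ Θ i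
    have hn : n ≫ (Θ i).ι = j ≫ m := morphismRestrict_ι _ _
    have k₁ : n ≫ (Θ i).ι ≫ A = j ≫ a' := by rw [reassoc_of% hn, h₁]
    have k₂ : n ≫ (Θ i).ι ≫ B = j ≫ b' := by rw [reassoc_of% hn, h₂]
    have k₃ : n ≫ (Θ i).ι ≫ C = j ≫ c' := by rw [reassoc_of% hn, h₃]
    have v₁ : (j ≫ a') ≫ g = (j ≫ b') ≫ g := by rw [Category.assoc, u₁, Category.assoc]
    have v₂ : (j ≫ b') ≫ g = (j ≫ c') ≫ g := by rw [Category.assoc, u₂, Category.assoc]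
    rw [map_mul, P.natural F H j a' c' (u₁.trans u₂) ea ec _ _ rfl rfl (v₁.trans v₂) (fun z => ea _) (fun z => ec _),
      map_mul, P.natural F G j a' b' u₁ ea eb _ _ rfl rfl v₁ (fun z => ea _) (fun z => eb _),
      P.natural G H j b' c' u₂ eb ec _ _ rfl rfl v₂ (fun z => eb _) (fun z => ec _)]
    have f₁ : ∀ z, (j ≫ a') z ∈ (Fr i.1).O := fun z => by rw [← k₁]; exact (n z).2.1.1
    have f₂ : ∀ z, (j ≫ b') z ∈ (Fr i.2.1).O := fun z => by rw [← k₂]; exact (n z).2.1.2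
    have f₃ : ∀ z, (j ≫ c') z ∈ (Fr i.2.2).O := fun z => by rw [← k₃]; exact (n z).2.2
    refine hdef (Fr i.1) (Fr i.2.1) (Fr i.2.2) F G H _ _ _ v₁ v₂ f₁ f₂ f₃ _ _ _ _ ?_
    have hjm : j.appTop (m.appTop W) = n.appTop ((Θ i).ι.appTop W) := by
      rw [← CommRingCat.comp_apply, ← CommRingCat.comp_apply, ← Scheme.Hom.comp_appTop, ← Scheme.Hom.comp_appTop, hn]
    rw [hjm, hW i, ← P.natural _ _ n _ _ ((hAB' i).trans (hBC' i)) (fun z => z.2.1.1) (fun z => z.2.2) _ _ k₁ k₃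
      (v₁.trans v₂) f₁ f₃, ← map_mul, mul_assoc, IsUnit.val_inv_mul, _root_.mul_one]
    simp only [top]
    rw [map_mul, P.natural _ _ n _ _ (hAB' i) (fun z => z.2.1.1) (fun z => z.2.1.2) _ _ k₁ k₂ v₁ f₁ f₂,
      P.natural _ _ n _ _ (hBC' i) (fun z => z.2.1.2) (fun z => z.2.2) _ _ k₂ k₃ v₂ f₂ f₃]
  obtain ⟨w₀, hw₀⟩ := (ha.bijective t).2 W
  -- along the section the defect is one
  have hw₀1 : w₀ = 1 := by
    let sT : pullback (pullback.snd h h) (pullback.fst h h) ⟶ XT := pullback.lift (t ≫ σ) (𝟙 _)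
      (by rw [Category.assoc, hσ, Category.id_comp, Category.comp_id])
    have hsq : sT ≫ q = 𝟙 _ := pullback.lift_snd _ _ _
    have hl : ∀ e he, sT ≫ lft e he = e ≫ σ' := fun e he => by
      apply pullback.hom_ext
      · simp only [lft, sT, Category.assoc, pullback.lift_fst]
        rw [hσ'g, ← reassoc_of% he]
      · simp only [lft, Category.assoc, pullback.lift_snd]
        rw [hσ'π, Category.comp_id, reassoc_of% hsq]
    have e1 : sT.appTop W = w₀ := by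
      rw [← hw₀, ← CommRingCat.comp_apply, ← Scheme.Hom.comp_appTop, hsq]; rfl
    rw [← e1]
    let e₁ := a₀; let e₂ := b₀; let e₃ := c₀
    let Γ' : ↥(pullback f h) × ↥(pullback f h) × ↥(pullback f h) → (pullback (pullback.snd h h) (pullback.fst h h)).Opens := fun i =>
      (e₁ ≫ σ') ⁻¹ᵁ (Fr i.1).O ⊓ (e₂ ≫ σ') ⁻¹ᵁ (Fr i.2.1).O ⊓ (e₃ ≫ σ') ⁻¹ᵁ (Fr i.2.2).O
    refine eq_of_forall_restrict Γ'
      (iSup_eq_top _ fun z => ⟨((e₁ ≫ σ') z, (e₂ ≫ σ') z, (e₃ ≫ σ') z), ⟨hFr _, hFr _⟩, hFr _⟩) fun i => ?_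
    let j := (Γ' i).ι
    have k₁ : (j ≫ sT) ≫ A = (j ≫ e₁) ≫ σ' := by rw [Category.assoc, hl a₀ rfl]; simp only [e₁, Category.assoc]
    have k₂ : (j ≫ sT) ≫ B = (j ≫ e₂) ≫ σ' := by rw [Category.assoc, hl b₀ hb₀]; simp only [e₂, Category.assoc]
    have k₃ : (j ≫ sT) ≫ C = (j ≫ e₃) ≫ σ' := by rw [Category.assoc, hl c₀ hc₀]; simp only [e₃, Category.assoc]
    have v₁ : ((j ≫ e₁) ≫ σ') ≫ g = ((j ≫ e₂) ≫ σ') ≫ g := by rw [← k₁, ← k₂]; simp only [Category.assoc, hAB]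
    have v₂ : ((j ≫ e₂) ≫ σ') ≫ g = ((j ≫ e₃) ≫ σ') ≫ g := by rw [← k₂, ← k₃]; simp only [Category.assoc, hBC]
    have key := hWv (Fr i.1) (Fr i.2.1) (Fr i.2.2) (j ≫ sT) _ _ _ k₁ k₂ k₃ v₁ v₂ (fun z => z.2.1.1) (fun z => z.2.1.2) (fun z => z.2.2)
    have n₁ := hnorm (Fr i.1) (Fr i.2.1) (j ≫ e₁) (j ≫ e₂) _ _ rfl rfl v₁ (fun z => z.2.1.1) (fun z => z.2.1.2)
      (fun z => z.2.1.1) (fun z => z.2.1.2)
    have n₂ := hnorm (Fr i.2.1) (Fr i.2.2) (j ≫ e₂) (j ≫ e₃) _ _ rfl rfl v₂ (fun z => z.2.1.2) (fun z => z.2.2)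
      (fun z => z.2.1.2) (fun z => z.2.2)
    have n₃ := hnorm (Fr i.1) (Fr i.2.2) (j ≫ e₁) (j ≫ e₃) _ _ rfl rfl (v₁.trans v₂) (fun z => z.2.1.1) (fun z => z.2.2)
      (fun z => z.2.1.1) (fun z => z.2.2)
    rw [map_one, ← CommRingCat.comp_apply, ← Scheme.Hom.comp_appTop]
    refine ((P.unit _ _ _ _ (v₁.trans v₂) (fun z => z.2.1.1) (fun z => z.2.2)).mul
      ((hru (Fr i.1)).map (ev (j ≫ e₁) fun z => z.2.1.1))).mul_right_cancel ?_
    rw [_root_.one_mul, ← mul_assoc, key, n₃, mul_right_comm, n₁, _root_.mul_comm, n₂]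
  let m : T ⟶ pullback (pullback.snd h h) (pullback.fst h h) :=
    pullback.lift (pullback.lift (a ≫ π) (b ≫ π) (hπh w₁)) (pullback.lift (b ≫ π) (c ≫ π) (hπh w₂))
      (by rw [pullback.lift_snd, pullback.lift_fst])
  have hma : m ≫ a₀ = a ≫ π := by simp only [m, a₀, pr, pullback.lift_fst_assoc, pullback.lift_fst]
  have hmb : m ≫ b₀ = b ≫ π := by simp only [m, b₀, pr, pullback.lift_fst_assoc, pullback.lift_snd]
  have hmc : m ≫ c₀ = c ≫ π := by simp only [m, c₀, qr, pullback.lift_snd_assoc, pullback.lift_snd]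
  let sx : T ⟶ XT := pullback.lift (a ≫ g) m (by
    show (a ≫ g) ≫ f = m ≫ a₀ ≫ h
    rw [reassoc_of% hma, Category.assoc, pullback.condition])
  have hlx : ∀ e₀ he (e : T ⟶ pullback f h), m ≫ e₀ = e ≫ π → a ≫ g = e ≫ g → sx ≫ lft e₀ he = e :=
      fun e₀ he e hm hw => by
    apply pullback.hom_ext
    · simp only [lft, sx, Category.assoc, pullback.lift_fst]; exact hw
    · simp only [lft, sx, Category.assoc, pullback.lift_snd, pullback.lift_snd_assoc, q]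
      exact hm
  have := hWv F G H sx a b c (hlx a₀ rfl a hma rfl) (hlx b₀ hb₀ b hmb w₁) (hlx c₀ hc₀ c hmc (w₁.trans w₂)) w₁ w₂ ea eb ec
  rw [← hw₀, hw₀1, map_one, map_one, _root_.one_mul] at this
  exact this.symm

end Groth.Agent.InvDescLib
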