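import Groth.Agent.InvDescLib.Trivial
import Groth.Agent.InvDescLib.FlatConst

/-!
# Invertible modules trivial after a covering of the base, flat version
-/

set_option autoImplicit false
set_option backward.isDefEq.respectTransparency false
set_option linter.style.haveILetI false

universe u

open CategoryTheory CategoryTheory.Limits AlgebraicGeometry TopologicalSpace
open Groth.Agent.SchDesc Groth.Agent.ParaFLib Groth.Agent.PullbackMod
open Groth.Agent.AmpleLib (isInvertible_pullback)

noncomputable section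

namespace Groth.Agent.InvDescLib

variable {X S : Scheme.{u}} {f : X ⟶ S}

/-- The cocycle identity needs to be checked on the universal triple of points only. -/
theorem cocycle_of_universal {S' : Scheme.{u}} (h : S' ⟶ S) (u : Γ(pullback h h, ⊤))
    (H : ∀ (w₁ : (pullback.fst (pullback.snd h h) (pullback.fst h h) ≫ pullback.fst h h) ≫ h =
          (pullback.fst (pullback.snd h h) (pullback.fst h h) ≫ pullback.snd h h) ≫ h)
        (w₂ : (pullback.fst (pullback.snd h h) (pullback.fst h h) ≫ pullback.snd h h) ≫ h =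
          (pullback.snd (pullback.snd h h) (pullback.fst h h) ≫ pullback.snd h h) ≫ h),
      val2 h u _ _ w₁ * val2 h u _ _ w₂ = val2 h u _ _ (w₁.trans w₂)) : Cocycle h u := by
  intro T a b c w₁ w₂
  let p := pullback.fst (pullback.snd h h) (pullback.fst h h)
  let q := pullback.snd (pullback.snd h h) (pullback.fst h h)
  have hpq : p ≫ pullback.snd h h = q ≫ pullback.fst h h := pullback.condition
  have W₁ : (p ≫ pullback.fst h h) ≫ h = (p ≫ pullback.snd h h) ≫ h := by
    simp only [Category.assoc, pullback.condition]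
  have W₂ : (p ≫ pullback.snd h h) ≫ h = (q ≫ pullback.snd h h) ≫ h := by
    rw [hpq]; simp only [Category.assoc, pullback.condition]
  let m : T ⟶ pullback (pullback.snd h h) (pullback.fst h h) :=
    pullback.lift (pullback.lift a b w₁) (pullback.lift b c w₂) (by rw [pullback.lift_snd, pullback.lift_fst])
  have ha : m ≫ p ≫ pullback.fst h h = a := by simp only [m, p, pullback.lift_fst_assoc, pullback.lift_fst]
  have hb : m ≫ p ≫ pullback.snd h h = b := by simp only [m, p, pullback.lift_fst_assoc, pullback.lift_snd]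
  have hc : m ≫ q ≫ pullback.snd h h = c := by simp only [m, q, pullback.lift_snd_assoc, pullback.lift_snd]
  rw [← val2_comp h u m _ _ W₁ a b ha hb w₁, ← val2_comp h u m _ _ W₂ b c hb hc w₂,
    ← val2_comp h u m _ _ (W₁.trans W₂) a c ha hc (w₁.trans w₂), ← map_mul, H W₁ W₂]

/-- An invertible module trivial after a covering of the base is a pullback from the base. -/
theorem exists_base_of_triv_flat (ha : FlatConst f) {L : X.Modules} (hL : PicF.IsInvertible L) {S' : Scheme.{u}}
    (h : S' ⟶ S) [IsFpqc h] (htriv : CubeLib.Triv ((Scheme.Modules.pullback (pullback.fst f h)).obj L)) :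
    ∃ N : S.Modules, PicF.IsInvertible N ∧ Nonempty ((Scheme.Modules.pullback f).obj N ≅ L) := by
  let g := pullback.fst f h
  let π := pullback.snd f h
  haveI : IsFpqc g := IsFpqc.of_isPullback (IsPullback.of_hasPullback f h).flip
  obtain ⟨σ, hσ⟩ := htriv
  obtain ⟨v, hvu, hvc, hv⟩ := exists_ratio g hL (σ := σ) hσ
  -- the comparison function comes from the base
  let h₂ : pullback h h ⟶ S := pullback.fst h h ≫ h
  let π₂ := pullback.snd f h₂
  let A : pullback f h₂ ⟶ pullback f h := pullback.lift (pullback.fst _ _) (π₂ ≫ pullback.fst h h) (by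
    rw [Category.assoc]; exact pullback.condition)
  let B : pullback f h₂ ⟶ pullback f h := pullback.lift (pullback.fst _ _) (π₂ ≫ pullback.snd h h) (by
    rw [Category.assoc, ← pullback.condition (f := h) (g := h)]; exact pullback.condition)
  have hAB : A ≫ g = B ≫ g := by simp only [A, B, g, pullback.lift_fst]
  obtain ⟨u, hu⟩ := (ha.bijective h₂).2 (val2 g v A B hAB)
  have huu : IsUnit u := by
    obtain ⟨w, hw⟩ := (isUnit_val2 g hvu A B hAB).exists_right_inv
    obtain ⟨u', rfl⟩ := (ha.bijective h₂).2 w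
    rw [← hu, ← map_mul, ← map_one π₂.appTop.hom] at hw
    exact IsUnit.of_mul_eq_one u' ((ha.bijective h₂).1 hw)
  have hval : ∀ (T : Scheme.{u}) (a b : T ⟶ pullback f h) (w : a ≫ g = b ≫ g) (w' : (a ≫ π) ≫ h = (b ≫ π) ≫ h),
      val2 g v a b w = val2 h u (a ≫ π) (b ≫ π) w' := by
    intro T a b w w'
    let m : T ⟶ pullback f h₂ := pullback.lift (a ≫ g) (pullback.lift (a ≫ π) (b ≫ π) w') (by
      simp only [h₂, pullback.lift_fst_assoc, Category.assoc]
      rw [pullback.condition])
    have hma : m ≫ A = a := by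
      apply pullback.hom_ext <;> simp [m, A, π₂, g, π]
    have hmb : m ≫ B = b := by
      apply pullback.hom_ext
      · simp only [m, B, Category.assoc, pullback.lift_fst]; exact w
      · simp [m, B, π₂, π]
    rw [← val2_comp g v m A B hAB a b hma hmb w, ← hu]
    show (π₂.appTop ≫ m.appTop) u = _
    rw [← Scheme.Hom.comp_appTop, show m ≫ π₂ = pullback.lift (a ≫ π) (b ≫ π) w' from pullback.lift_snd _ _ _]
    rfl
  have huc : Cocycle h u := cocycle_of_universal h u (by
    let a := pullback.fst (pullback.snd h h) (pullback.fst h h) ≫ pullback.fst h h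
    let b := pullback.fst (pullback.snd h h) (pullback.fst h h) ≫ pullback.snd h h
    let c := pullback.snd (pullback.snd h h) (pullback.fst h h) ≫ pullback.snd h h
    intro w₁ w₂
    let T := pullback (pullback.snd h h) (pullback.fst h h)
    apply (ha.bijective (a ≫ h)).1
    let q := pullback.snd f (a ≫ h)
    let P : ∀ (e : T ⟶ S') (_ : e ≫ h = a ≫ h), pullback f (a ≫ h) ⟶ pullback f h := fun e he =>
      pullback.lift (pullback.fst _ _) (q ≫ e) (pullback.condition.trans ((congrArg (q ≫ ·) he.symm).trans (Category.assoc q e h).symm))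
    have hP : ∀ e he, P e he ≫ π = q ≫ e := fun e he => pullback.lift_snd _ _ _
    have hPg : ∀ e he e' he', P e he ≫ g = P e' he' ≫ g := fun e he e' he' => by
      simp only [P, g, pullback.lift_fst]
    have key : ∀ (e e' : T ⟶ S') (he : e ≫ h = a ≫ h) (he' : e' ≫ h = a ≫ h) (we : e ≫ h = e' ≫ h),
        q.appTop (val2 h u e e' we) = val2 g v (P e he) (P e' he') (hPg e he e' he') := fun e e' he he' we => by
      rw [hval _ _ _ _ (by simp only [Category.assoc]; rw [reassoc_of% (hP e he), reassoc_of% (hP e' he'), we]),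
        val2_comp h u q e e' we _ _ (hP e he).symm (hP e' he').symm]
    show q.appTop _ = q.appTop _
    rw [map_mul, key a b rfl w₁.symm w₁, key b c w₁.symm (w₂.symm.trans w₁.symm) w₂,
      key a c rfl (w₂.symm.trans w₁.symm) (w₁.trans w₂)]
    exact hvc _ _ _ _ _ _)
  refine AVLib.exists_iso_pullback_of_locally f hL (fun y => ?_) fun y =>
    ⟨⊤, trivial, fun V _ => ha.bijective_app V⟩
  obtain ⟨D, hyD, k, hk, hkeq⟩ := exists_local_unit_of_cocycle h huu huc y
  obtain ⟨k', hkk'⟩ := hk.exists_right_inv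
  let O := f ⁻¹ᵁ D
  have hOD : g ⁻¹ᵁ O ≤ π ⁻¹ᵁ (h ⁻¹ᵁ D) := fun z hz => by
    show h (π z) ∈ D
    rw [← Scheme.Hom.comp_apply, ← pullback.condition, Scheme.Hom.comp_apply]
    exact hz
  let K := π.appLE (h ⁻¹ᵁ D) (g ⁻¹ᵁ O) hOD k'
  let N := (Scheme.Modules.pullback g).obj L
  let σ' := K • N.presheaf.map (homOfLE (g.preimage_mono (le_top : O ≤ ⊤))).op σ
  have hσ' : Gen (g ⁻¹ᵁ O) σ' :=
    (hσ.res _).smul ((IsUnit.of_mul_eq_one k (by rw [_root_.mul_comm, hkk'])).map _)
  refine ⟨D, hyD, exists_gen_of_compat g hL hσ' fun W hWO t ht r hr T a b ea eb w => ?_⟩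
  obtain ⟨r₀, hr₀, -⟩ := exists_coef g hL (le_top : W ≤ ⊤) ht hσ
  have hrr : r = resPre g hWO K * r₀ := by
    refine gen_inj (AmpleEmb.gen_pullMap g hL ht) ?_
    rw [mul_smul, hr₀, hr, N.map_smul, ParaFLib.res_res]
    rfl
  have ea' : ∀ z, (a ≫ π) z ∈ h ⁻¹ᵁ D := fun z => hOD (hWO (ea z))
  have eb' : ∀ z, (b ≫ π) z ∈ h ⁻¹ᵁ D := fun z => hOD (hWO (eb z))
  have w' : (a ≫ π) ≫ h = (b ≫ π) ≫ h := by
    rw [Category.assoc, Category.assoc, ← pullback.condition, reassoc_of% w]
  have h1 := hv W t ht r₀ hr₀ T a b ea eb w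
  have h2 := hkeq T (a ≫ π) (b ≫ π) ea' eb' w'
  have hK : ∀ (c : T ⟶ pullback f h) (ec : ∀ s, c s ∈ g ⁻¹ᵁ W) (ec' : ∀ s, (c ≫ π) s ∈ h ⁻¹ᵁ D),
      ev c ec (resPre g hWO K) = ev (c ≫ π) ec' k' := fun c ec ec' => by
    rw [resPre, ev_res, ev_appLE]
  have hone : ∀ (c : T ⟶ S') (ec : ∀ s, c s ∈ h ⁻¹ᵁ D), ev c ec k * ev c ec k' = 1 := fun c ec => by
    rw [← map_mul, hkk', map_one]
  rw [hrr, map_mul, map_mul, hK a ea ea', hK b eb eb', ← h1, hval T a b w w', ← mul_assoc]
  congr 1
  apply (((IsUnit.of_mul_eq_one _ hkk' : IsUnit k).map (ev (b ≫ π) eb')).mul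
    ((IsUnit.of_mul_eq_one _ hkk' : IsUnit k).map (ev (a ≫ π) ea'))).mul_left_cancel
  calc ev (b ≫ π) eb' k * ev (a ≫ π) ea' k * ev (a ≫ π) ea' k'
      = ev (b ≫ π) eb' k := by rw [mul_assoc, hone, _root_.mul_one]
    _ = val2 h u (a ≫ π) (b ≫ π) w' * ev (a ≫ π) ea' k := h2.symm
    _ = _ := by
      rw [mul_mul_mul_comm, ← mul_assoc, hone, _root_.one_mul, _root_.mul_comm]

end Groth.Agent.InvDescLib
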