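import Groth.Agent.InvDescLib.Rig
import Groth.Agent.InvDescLib.FlatTrivial
import Groth.Agent.InvDescLib.FlatNormalise
import Groth.Agent.InvDescLib.FpqcComp

/-!
# Descent of rigidified classes, flat version
-/

set_option autoImplicit false
set_option backward.isDefEq.respectTransparency false
set_option linter.style.haveILetI false

universe u

open CategoryTheory CategoryTheory.Limits AlgebraicGeometry TopologicalSpace
open Groth.Agent.SchDesc Groth.Agent.PicLib Groth.Agent.AbDualLib
open Groth.Agent.AmpleLib (isInvertible_pullback)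

noncomputable section

namespace Groth.Agent.InvDescLib

variable {X S : Scheme.{u}} {f : X ⟶ S}

/-- A rigidified class trivial after a covering of the base is trivial. -/
theorem eq_one_of_pull_eq_one_flat (ha : FlatConst f) (σ : S ⟶ X) (hσ : σ ≫ f = 𝟙 S) {S' : Scheme.{u}} (h : S' ⟶ S)
    [IsFpqc h] {d : Pic X} (hd : pull σ d = 1) (hd' : pull (pullback.fst f h) d = 1) : d = 1 := by
  obtain ⟨L, hL, rfl⟩ := exists_cls d
  rw [pull_cls _ hL] at hd'
  obtain ⟨N, hN, ⟨e⟩⟩ := exists_base_of_triv_flat ha hL h ((eq_one_iff_triv (isInvertible_pullback _ hL)).1 hd')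
  have h1 : pull f (cls hN) = cls hL := (pull_cls f hN).trans ((cls_eq_cls _ _).2 ⟨e⟩)
  rw [← h1, pull_pull_of_id hσ] at hd
  rw [← h1, hd, map_one]

/-- A rigidified class on the base change to an fpqc covering of the base whose two inverse images agree comes
from a unique rigidified class. -/
theorem existsUnique_pic_descends_fpqc_flat (ha : FlatConst f) (σ : S ⟶ X) (hσ : σ ≫ f = 𝟙 S) {S' : Scheme.{u}} (h : S' ⟶ S)
    [IsFpqc h] (σ' : S' ⟶ pullback f h)
    (hσ'g : σ' ≫ pullback.fst f h = h ≫ σ) (hσ'π : σ' ≫ pullback.snd f h = 𝟙 S') (a : Pic (pullback f h))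
    (hrig : pull σ' a = 1)
    (hglue : pull (pullback.fst (pullback.fst f h) (pullback.fst f h)) a =
      pull (pullback.snd (pullback.fst f h) (pullback.fst f h)) a) :
    ∃! b : Pic X, pull σ b = 1 ∧ pull (pullback.fst f h) b = a := by
  haveI : IsFpqc (pullback.fst f h) := IsFpqc.of_isPullback (IsPullback.of_hasPullback f h).flip
  obtain ⟨L, hL, rfl⟩ := exists_cls a
  rw [pull_cls _ hL] at hrig
  rw [pull_cls _ hL, pull_cls _ hL] at hglue
  obtain ⟨θ⟩ := (cls_eq_cls _ _).1 hglue
  obtain ⟨P, hP⟩ := exists_cocycle_flat ha σ hσ hL σ' hσ'g hσ'π ((eq_one_iff_triv (isInvertible_pullback _ hL)).1 hrig) θ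
  obtain ⟨M, hM, ⟨e⟩⟩ := exists_descended hL hP
  let b := cls hM * (pull f (pull σ (cls hM)))⁻¹
  have hb : pull σ b = 1 := by
    simp only [b, map_mul, map_inv]
    rw [pull_pull_of_id hσ, mul_inv_cancel]
  have hM' : pull (pullback.fst f h) (cls hM) = cls hL := (pull_cls _ hM).trans ((cls_eq_cls _ _).2 ⟨e⟩)
  have hb' : pull (pullback.fst f h) b = cls hL := by
    simp only [b, map_mul, map_inv]
    rw [pull_pull_of_eq pullback.condition, ← pull_pull_of_eq hσ'g, hM', pull_cls _ hL, hrig, map_one, inv_one,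
      _root_.mul_one]
  refine ⟨b, ⟨hb, hb'⟩, fun b' hb₁ => ?_⟩
  refine div_eq_one.1 (eq_one_of_pull_eq_one_flat ha σ hσ h ?_ ?_)
  · rw [map_div, hb₁.1, hb, div_self']
  · rw [map_div, hb₁.2, hb', div_self']

end Groth.Agent.InvDescLib
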