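import Groth.Agent.InvDescLib.Sections
import Groth.Agent.KVbLib.Twist
import Groth.Agent.PicLib.Group
import Groth.Agent.GrpAmpleLib.FrobLift
import Mathlib.FieldTheory.PurelyInseparable.Exponent
import Groth.Prelude.Def_W4c3convisocdirimgFrobIter

/-!
# Inverse image of an invertible module along the absolute Frobenius
-/

set_option autoImplicit false
set_option backward.isDefEq.respectTransparency false
set_option linter.style.haveILetI false

universe u

open CategoryTheory CategoryTheory.Limits AlgebraicGeometry TopologicalSpace Opposite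
open Groth.Agent.ParaFLib Groth.Agent.PullbackMod Groth.Agent.PicLib

noncomputable section

namespace Groth.Agent.InvDescLib

variable {X : Scheme.{u}} {p : ℕ} [Fact p.Prime] [FrobSch.IsCharP X p]

/-- The inverse image along the absolute Frobenius is the `p`-th power. -/
theorem pull_frob (a : Pic X) : pull (FrobSch.frob X p) a = a ^ p := by
  obtain ⟨L, hL, rfl⟩ := exists_cls a
  rw [pull_cls, ← cls_tensorPow hL p, cls_eq_cls]
  choose U e hU he using fun x : X => exists_gen_nhd hL x
  have hcov : iSup U = ⊤ := eq_top_iff.2 fun x _ => Opens.mem_iSup.2 ⟨x, hU x⟩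
  choose η hη using fun i j : X => ((he j).res (inf_le_right : U i ⊓ U j ≤ U j) (U i ⊓ U j) le_rfl).2
    (L.presheaf.map (homOfLE (inf_le_left : U i ⊓ U j ≤ U i)).op (e i))
  have hη' : ∀ i j, η i j • L.presheaf.map (homOfLE (inf_le_right : U i ⊓ U j ≤ U j)).op (e j) =
      L.presheaf.map (homOfLE (inf_le_left : U i ⊓ U j ≤ U i)).op (e i) := fun i j => by
    refine Eq.trans ?_ (hη i j)
    exact congrArg (η i j • ·) (ParaFLib.res_self _ _).symm
  refine nonempty_iso_of_bases hcov (s := fun i => pullMap (FrobSch.frob X p) L le_rfl (e i))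
    (t := fun i => KVb.powS L (e i) p) (fun i => AmpleEmb.gen_pullMap (FrobSch.frob X p) hL (he i))
    (fun i => AmpleLib.gen_of_germ fun x hx => KVb.isGen_powS L (fun y hy => (he i).bijective_germ y hy) p x hx)
    (fun i j => η i j ^ p) (fun i j => ?_) (fun i j => ?_)
  · have h1 := pullMap_res (FrobSch.frob X p) L (le_rfl : FrobSch.frob X p ⁻¹ᵁ U i ≤ _)
      (inf_le_left : U i ⊓ U j ≤ U i) ((FrobSch.frob X p).preimage_mono inf_le_left) le_rfl (e i)
    have h2 := pullMap_res (FrobSch.frob X p) L (le_rfl : FrobSch.frob X p ⁻¹ᵁ U j ≤ _)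
      (inf_le_right : U i ⊓ U j ≤ U j) ((FrobSch.frob X p).preimage_mono inf_le_right) le_rfl (e j)
    refine h1.trans ?_
    rw [← hη' i j, pullMap_smul]
    refine congrArg₂ (· • ·) ?_ h2.symm
    rw [← Scheme.Hom.app_eq_appLE]
    exact FrobSch.frob_app X p _ _
  · exact (KVb.rs_powS L inf_le_left (e i) p).trans ((congrArg (KVb.powS L · p) (hη' i j).symm).trans
      ((KVb.powS_smul L _ _ p).trans (congrArg _ (KVb.rs_powS L inf_le_right (e j) p).symm)))

/-- The inverse image along an iterate of the absolute Frobenius. -/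
theorem pull_frobIter : ∀ (n : ℕ) (a : Pic X), pull (FrobSch.frobIter X p n) a = a ^ p ^ n
  | 0, a => by rw [FrobSch.frobIter_zero, pull_id, pow_zero, pow_one]
  | n + 1, a => by rw [FrobSch.frobIter_succ, pull_comp, pull_frobIter n a, pull_frob, ← pow_mul, ← pow_succ]

/-- The iterated Frobenius of the spectrum of a ring. -/
theorem frobIter_Spec' {K : Type u} [Field K] {p : ℕ} [Fact p.Prime] [CharP K p] {K' : Type u} [Field K'] [Algebra K K']
    (θ : K' →+* K) (n : ℕ) (hθ : ∀ a, θ (algebraMap K K' a) = a ^ p ^ n) :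
    FrobSch.frobIter (Spec (CommRingCat.of K)) p n =
      Spec.map (CommRingCat.ofHom θ) ≫ Spec.map (CommRingCat.ofHom (algebraMap K K')) := by
  rw [← Spec.map_comp]
  refine ext_of_isAffine ?_
  ext s
  rw [GrpAmpleLib.frobIter_appTop]
  let e := Scheme.ΓSpecIso (CommRingCat.of K)
  have h2 := congrArg (fun h => h.hom s) (Scheme.ΓSpecIso_naturality (CommRingCat.ofHom (algebraMap K K') ≫ CommRingCat.ofHom θ))
  apply e.commRingCatIsoToRingEquiv.injective
  rw [map_pow]
  exact (hθ _).symm.trans h2.symm

/-- Classes of order prime to `p` descend along finite purely inseparable extensions. -/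
theorem exists_pull_eq_of_pow_eq_one {k : Type u} [Field k] {p : ℕ} [Fact p.Prime] [CharP k p] {X : Scheme.{u}}
    (f : X ⟶ Spec (CommRingCat.of k)) (K : Type u) [Field K] [Algebra k K] [FiniteDimensional k K]
    [IsPurelyInseparable k K] {n : ℕ} (hn : ¬ p ∣ n)
    (d : Pic (pullback f (Spec.map (CommRingCat.ofHom (algebraMap k K))))) (hd : d ^ n = 1) :
    ∃ c : Pic X, c ^ n = 1 ∧ pull (pullback.fst f (Spec.map (CommRingCat.ofHom (algebraMap k K)))) c = d := by
  haveI : CharP K p := charP_of_injective_algebraMap (algebraMap k K).injective p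
  let N := IsPurelyInseparable.exponent k K
  let θ : K →+* k := IsPurelyInseparable.iterateFrobenius k K p (n := N) le_rfl
  have hθ : ∀ a, θ (algebraMap k K a) = a ^ p ^ N := fun a =>
    IsPurelyInseparable.iterateFrobenius_algebraMap K p le_rfl a
  haveI : FrobSch.IsCharP X p := FrobSch.IsCharP.of_hom f p
  let q := Spec.map (CommRingCat.ofHom (algebraMap k K))
  haveI : FrobSch.IsCharP (pullback f q) p := FrobSch.IsCharP.of_hom (pullback.snd f q) p
  let j : X ⟶ pullback f q := pullback.lift (FrobSch.frobIter X p N) (f ≫ Spec.map (CommRingCat.ofHom θ))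
    (by rw [GrpAmpleLib.frobIter_comp, frobIter_Spec' θ N hθ, Category.assoc])
  have hj : pullback.fst f q ≫ j = FrobSch.frobIter (pullback f q) p N := by
    refine pullback.hom_ext ?_ ?_
    · rw [Category.assoc, pullback.lift_fst, GrpAmpleLib.frobIter_comp]
    · rw [Category.assoc, pullback.lift_snd, GrpAmpleLib.frobIter_comp, pullback.condition_assoc,
        frobIter_Spec' (K := K) (K' := K) ((algebraMap k K).comp θ) N
          (fun a => IsPurelyInseparable.algebraMap_iterateFrobenius k p le_rfl a), Algebra.algebraMap_self,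
        CommRingCat.ofHom_id, Spec.map_id, Category.comp_id, CommRingCat.ofHom_comp, Spec.map_comp]
  rcases Nat.lt_or_ge 1 n with h1 | h1
  · have hco : Nat.Coprime (p ^ N) n := Nat.Coprime.pow_left _ ((Nat.Prime.coprime_iff_not_dvd Fact.out).2 hn)
    obtain ⟨s, -, hs⟩ := Nat.exists_mul_mod_eq_one_of_coprime hco h1
    refine ⟨pull j d ^ s, by rw [← map_pow, ← map_pow, ← pow_mul, Nat.mul_comm, pow_mul, hd, one_pow, map_one], ?_⟩
    rw [map_pow, ← pull_comp, hj, pull_frobIter, ← pow_mul, ← Nat.div_add_mod (p ^ N * s) n, pow_add, pow_mul, hd,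
      one_pow, _root_.one_mul, hs, pow_one]
  · obtain rfl : n = 1 := le_antisymm h1 (Nat.one_le_iff_ne_zero.2 (by rintro rfl; exact hn (dvd_zero p)))
    exact ⟨1, one_pow _, by rw [map_one, ← hd, pow_one]⟩

end Groth.Agent.InvDescLib
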