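import Groth.Agent.SchDesc.Cover
import Mathlib

/-!
# Functions descend along fpqc coverings
-/

set_option autoImplicit false
set_option backward.isDefEq.respectTransparency false
set_option linter.style.haveILetI false

universe u

open CategoryTheory CategoryTheory.Limits AlgebraicGeometry Polynomial
open Groth.Agent.SchDesc

noncomputable section

namespace Groth.Agent.InvDescLib

/-- The value of a function on an open at a point with values in a scheme. -/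
def ev {T X : Scheme.{u}} (a : T ⟶ X) {V : X.Opens} (e : ∀ t, a t ∈ V) : Γ(X, V) →+* Γ(T, ⊤) :=
  (a.appLE V ⊤ (fun t _ => e t)).hom

theorem ev_congr {T X : Scheme.{u}} {a b : T ⟶ X} (h : a = b) {V : X.Opens} (ea : ∀ t, a t ∈ V) (eb : ∀ t, b t ∈ V)
    (r : Γ(X, V)) : ev a ea r = ev b eb r := by
  subst h; rfl

theorem ev_comp {T' T X : Scheme.{u}} (g : T' ⟶ T) (a : T ⟶ X) {V : X.Opens} (e : ∀ t, a t ∈ V)
    (e' : ∀ t, (g ≫ a) t ∈ V) (r : Γ(X, V)) : ev (g ≫ a) e' r = g.appTop (ev a e r) := by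
  show _ = g.app ⊤ ((a.appLE V ⊤ _) r)
  rw [Scheme.Hom.app_eq_appLE, ← ConcreteCategory.comp_apply, Scheme.Hom.appLE_comp_appLE]
  rfl

theorem ev_app {T X Y : Scheme.{u}} (a : T ⟶ X) (g : X ⟶ Y) {W : Y.Opens} (e : ∀ t, a t ∈ g ⁻¹ᵁ W)
    (e' : ∀ t, (a ≫ g) t ∈ W) (s : Γ(Y, W)) : ev a e (g.app W s) = ev (a ≫ g) e' s := by
  show a.appLE _ _ _ (g.app W s) = _
  rw [Scheme.Hom.app_eq_appLE, ← ConcreteCategory.comp_apply, Scheme.Hom.appLE_comp_appLE]
  rfl

theorem ev_res {T X : Scheme.{u}} (a : T ⟶ X) {V W : X.Opens} (h : W ≤ V) (e : ∀ t, a t ∈ W) (r : Γ(X, V)) :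
    ev a e (X.presheaf.map (homOfLE h).op r) = ev a (fun t => h (e t)) r := by
  show a.appLE _ _ _ (X.presheaf.map _ r) = _
  rw [← ConcreteCategory.comp_apply, Scheme.Hom.map_appLE]
  rfl

theorem ev_ι {X : Scheme.{u}} {V : X.Opens} (r : Γ(X, V)) : ev V.ι (fun t => t.2) r = V.topIso.inv r := by
  have h : V.ι ⁻¹ᵁ V = ⊤ := V.ι_preimage_self
  show V.ι.appLE V ⊤ _ r = _
  rw [Scheme.Opens.ι_appLE]
  rfl

theorem ev_injective {X : Scheme.{u}} {V : X.Opens} {r r' : Γ(X, V)}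
    (h : ∀ (T : Scheme.{u}) (a : T ⟶ X) (e : ∀ t, a t ∈ V), ev a e r = ev a e r') : r = r' := by
  have := h V.toScheme V.ι (fun t => t.2)
  rw [ev_ι, ev_ι] at this
  exact (ConcreteCategory.bijective_of_isIso V.topIso.inv).1 this

/-- The morphism to the affine line given by a function. -/
def toA1 {U : Scheme.{u}} (r : Γ(U, ⊤)) : U ⟶ Spec (CommRingCat.of (ULift.{u} ℤ)[X]) :=
  U.toSpecΓ ≫ Spec.map (CommRingCat.ofHom (eval₂RingHom ((Int.castRingHom Γ(U, ⊤)).comp ULift.ringEquiv.toRingHom) r))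

theorem comp_toA1 {U U' : Scheme.{u}} (f : U' ⟶ U) (r : Γ(U, ⊤)) : f ≫ toA1 r = toA1 (f.appTop r) := by
  rw [toA1, toA1, Scheme.toSpecΓ_naturality_assoc, ← Spec.map_comp]
  congr 2
  refine CommRingCat.hom_ext (Polynomial.ringHom_ext (fun a => ?_) ?_) <;> simp

theorem appTop_toA1 {U : Scheme.{u}} (r : Γ(U, ⊤)) :
    (toA1 r).appTop ((Scheme.ΓSpecIso (CommRingCat.of (ULift.{u} ℤ)[X])).inv Polynomial.X) = r := by
  let φ : CommRingCat.of (ULift.{u} ℤ)[X] ⟶ Γ(U, ⊤) :=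
    CommRingCat.ofHom (eval₂RingHom ((Int.castRingHom Γ(U, ⊤)).comp ULift.ringEquiv.toRingHom) r)
  show U.toSpecΓ.appTop ((Spec.map φ).appTop ((Scheme.ΓSpecIso (CommRingCat.of (ULift.{u} ℤ)[X])).inv Polynomial.X)) = r
  have h : (Spec.map φ).appTop ((Scheme.ΓSpecIso _).inv Polynomial.X) =
      (Scheme.ΓSpecIso Γ(U, ⊤)).inv (φ Polynomial.X) :=
    (ConcreteCategory.congr_hom (Scheme.ΓSpecIso_inv_naturality φ) Polynomial.X).symm
  rw [h, Scheme.toSpecΓ_appTop, Iso.inv_hom_id_apply]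
  exact eval₂_X _ _

theorem toA1_injective {U : Scheme.{u}} : Function.Injective (toA1 (U := U)) := fun r r' h => by
  rw [← appTop_toA1 r, h, appTop_toA1]

theorem appTop_injective {X X' : Scheme.{u}} (g : X' ⟶ X) [Epi g] : Function.Injective g.appTop := by
  intro a b h
  apply toA1_injective
  rw [← cancel_epi g, comp_toA1, comp_toA1, h]

variable {X X' : Scheme.{u}} (g : X' ⟶ X) [IsFpqc g]

theorem isFpqc_restrict (W : X.Opens) : IsFpqc (g ∣_ W) :=
  IsFpqc.of_isPullback (isPullback_morphismRestrict g W).flip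

theorem app_injective (W : X.Opens) : Function.Injective (g.app W) := by
  intro a b h
  haveI := isFpqc_restrict g W
  refine ev_injective fun T c e => ?_
  let c' : T ⟶ (W : Scheme.{u}) := IsOpenImmersion.lift W.ι c (by
    rintro _ ⟨t, rfl⟩; rw [Scheme.Opens.range_ι]; exact e t)
  have hc : c' ≫ W.ι = c := IsOpenImmersion.lift_fac _ _ _
  rw [← ev_congr hc (fun t => by rw [hc]; exact e t) e a, ← ev_congr hc (fun t => by rw [hc]; exact e t) e b,
    ev_comp c' W.ι (fun t => t.2), ev_comp c' W.ι (fun t => t.2)]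
  congr 1
  apply appTop_injective (g ∣_ W)
  have he : ∀ t, (g ⁻¹ᵁ W).ι t ∈ g ⁻¹ᵁ W := fun t => t.2
  have key : ∀ s : Γ(X, W), (g ∣_ W).appTop (ev W.ι (fun t => t.2) s) = ev (g ⁻¹ᵁ W).ι he (g.app W s) := fun s => by
    rw [← ev_comp _ _ _ (fun t => ((g ∣_ W) t).2), ev_app _ _ _ (fun t => he t)]
    exact ev_congr (morphismRestrict_ι g W) _ _ _
  rw [key, key, h]

/-- A function with equal values on points over the same point descends. -/
theorem exists_fun {W : X.Opens} (r : Γ(X', g ⁻¹ᵁ W))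
    (h : ∀ (T : Scheme.{u}) (a b : T ⟶ X') (ea : ∀ t, a t ∈ g ⁻¹ᵁ W) (eb : ∀ t, b t ∈ g ⁻¹ᵁ W),
      a ≫ g = b ≫ g → ev a ea r = ev b eb r) :
    ∃ a : Γ(X, W), g.app W a = r := by
  haveI := isFpqc_restrict g W
  let gW := g ∣_ W
  let r' : Γ((g ⁻¹ᵁ W : Scheme.{u}), ⊤) := ev (g ⁻¹ᵁ W).ι (fun t => t.2) r
  have hcomp : ∀ (T : Scheme.{u}) (a b : T ⟶ (g ⁻¹ᵁ W : Scheme.{u})), a ≫ gW = b ≫ gW →
      a ≫ toA1 r' = b ≫ toA1 r' := fun T a b hab => by
    rw [comp_toA1, comp_toA1, ← ev_comp a _ _ (fun t => (a t).2), ← ev_comp b _ _ (fun t => (b t).2)]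
    congr 1
    refine h T _ _ _ _ ?_
    rw [Category.assoc, Category.assoc, ← morphismRestrict_ι, reassoc_of% hab]
  let m : (W : Scheme.{u}) ⟶ _ := EffectiveEpi.desc gW (toA1 r') (fun {T} a b hab => hcomp T a b hab)
  have hm : gW ≫ m = toA1 r' := EffectiveEpi.fac gW _ _
  let A := m.appTop ((Scheme.ΓSpecIso (CommRingCat.of (ULift.{u} ℤ)[X])).inv Polynomial.X)
  refine ⟨W.topIso.hom A, (ConcreteCategory.bijective_of_isIso (g ⁻¹ᵁ W).topIso.inv).1 ?_⟩
  rw [← ev_ι, ← ev_ι, ev_app _ _ _ (fun t => (show g ((g ⁻¹ᵁ W).ι t) ∈ W from t.2))]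
  show _ = r'
  rw [ev_congr (morphismRestrict_ι g W).symm _ (fun t => (gW t).2), ev_comp gW W.ι (fun t => t.2), ev_ι,
    Iso.hom_inv_id_apply]
  have := congrArg (fun φ => (Scheme.Hom.appTop φ) ((Scheme.ΓSpecIso (CommRingCat.of (ULift.{u} ℤ)[X])).inv Polynomial.X)) hm
  simp only [Scheme.Hom.comp_appTop, CommRingCat.comp_apply] at this
  exact this.trans (appTop_toA1 r')

end Groth.Agent.InvDescLib
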