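import Groth.Agent.InvDescLib.Effective
import Groth.Agent.AbDualLib.Dual

/-!
# Rigidified invertible classes descend along fppf coverings of the base
-/

set_option autoImplicit false
set_option backward.isDefEq.respectTransparency false
set_option linter.style.haveILetI false

universe u

open CategoryTheory CategoryTheory.Limits AlgebraicGeometry TopologicalSpace
open Groth.Agent.SchDesc Groth.Agent.PicLib Groth.Agent.AbDualLib
open Groth.Agent.AmpleLib (isInvertible_pullback)

noncomputable section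

namespace Groth.Agent.InvDescLib

variable {X S : Scheme.{u}} {f : X ⟶ S}

theorem pull_pull_of_eq {A B B' C : Scheme.{u}} {p : A ⟶ B} {q : B ⟶ C} {p' : A ⟶ B'} {q' : B' ⟶ C}
    (e : p ≫ q = p' ≫ q') (a : Pic C) : pull p (pull q a) = pull p' (pull q' a) := by
  rw [← pull_comp, ← pull_comp, e]

theorem pull_pull_of_id {A B : Scheme.{u}} {p : A ⟶ B} {q : B ⟶ A} (e : p ≫ q = 𝟙 A) (a : Pic A) :
    pull p (pull q a) = a := by
  rw [← pull_comp, e, pull_id]

theorem pull_injective_of_isIso {A B : Scheme.{u}} (e : A ⟶ B) [IsIso e] : Function.Injective (pull e) :=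
  fun a b h => by
    rw [← pull_pull_of_id (IsIso.inv_hom_id e) a, ← pull_pull_of_id (IsIso.inv_hom_id e) b, h]

/-- A rigidified class trivial after a covering of the base is trivial. -/
theorem eq_one_of_pull_eq_one (ha : UnivConst f) (σ : S ⟶ X) (hσ : σ ≫ f = 𝟙 S) {S' : Scheme.{u}} (h : S' ⟶ S)
    [IsFpqc h] {d : Pic X} (hd : pull σ d = 1) (hd' : pull (pullback.fst f h) d = 1) : d = 1 := by
  obtain ⟨L, hL, rfl⟩ := exists_cls d
  rw [pull_cls _ hL] at hd'
  obtain ⟨N, hN, ⟨e⟩⟩ := exists_base_of_triv ha hL h ((eq_one_iff_triv (isInvertible_pullback _ hL)).1 hd')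
  have h1 : pull f (cls hN) = cls hL := (pull_cls f hN).trans ((cls_eq_cls _ _).2 ⟨e⟩)
  rw [← h1, pull_pull_of_id hσ] at hd
  rw [← h1, hd, map_one]

/-- A rigidified class on the base change to an fpqc covering of the base whose two inverse images agree comes
from a unique rigidified class. -/
theorem existsUnique_pic_descends_fpqc (ha : UnivConst f) (σ : S ⟶ X) (hσ : σ ≫ f = 𝟙 S) {S' : Scheme.{u}} (h : S' ⟶ S)
    [IsFpqc h] (σ' : S' ⟶ pullback f h)
    (hσ'g : σ' ≫ pullback.fst f h = h ≫ σ) (hσ'π : σ' ≫ pullback.snd f h = 𝟙 S') (a : Pic (pullback f h))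
    (hrig : pull σ' a = 1)
    (hglue : pull (pullback.fst (pullback.fst f h) (pullback.fst f h)) a =
      pull (pullback.snd (pullback.fst f h) (pullback.fst f h)) a) :
    ∃! b : Pic X, pull σ b = 1 ∧ pull (pullback.fst f h) b = a := by
  haveI : IsFpqc (pullback.fst f h) := IsFpqc.of_isPullback (IsPullback.of_hasPullback f h).flip
  obtain ⟨L, hL, rfl⟩ := exists_cls a
  rw [pull_cls _ hL] at hrig
  rw [pull_cls _ hL, pull_cls _ hL] at hglue
  obtain ⟨θ⟩ := (cls_eq_cls _ _).1 hglue
  obtain ⟨P, hP⟩ := exists_cocycle ha σ hσ hL σ' hσ'g hσ'π ((eq_one_iff_triv (isInvertible_pullback _ hL)).1 hrig) θ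
  obtain ⟨M, hM, ⟨e⟩⟩ := exists_descended hL hP
  let b := cls hM * (pull f (pull σ (cls hM)))⁻¹
  have hb : pull σ b = 1 := by
    simp only [b, map_mul, map_inv]
    rw [pull_pull_of_id hσ, mul_inv_cancel]
  have hM' : pull (pullback.fst f h) (cls hM) = cls hL := (pull_cls _ hM).trans ((cls_eq_cls _ _).2 ⟨e⟩)
  have hb' : pull (pullback.fst f h) b = cls hL := by
    simp only [b, map_mul, map_inv]
    rw [pull_pull_of_eq pullback.condition, ← pull_pull_of_eq hσ'g, hM', pull_cls _ hL, hrig, map_one, inv_one,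
      _root_.mul_one]
  refine ⟨b, ⟨hb, hb'⟩, fun b' hb₁ => ?_⟩
  refine div_eq_one.1 (eq_one_of_pull_eq_one ha σ hσ h ?_ ?_)
  · rw [map_div, hb₁.1, hb, div_self']
  · rw [map_div, hb₁.2, hb', div_self']

/-- A rigidified class on the base change to an fppf covering of the base whose two inverse images agree comes
from a unique rigidified class. -/
theorem existsUnique_pic_descends (ha : UnivConst f) (σ : S ⟶ X) (hσ : σ ≫ f = 𝟙 S) {S' : Scheme.{u}} (h : S' ⟶ S)
    [Flat h] [LocallyOfFinitePresentation h] [Surjective h] (σ' : S' ⟶ pullback f h)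
    (hσ'g : σ' ≫ pullback.fst f h = h ≫ σ) (hσ'π : σ' ≫ pullback.snd f h = 𝟙 S') (a : Pic (pullback f h))
    (hrig : pull σ' a = 1)
    (hglue : pull (pullback.fst (pullback.fst f h) (pullback.fst f h)) a =
      pull (pullback.snd (pullback.fst f h) (pullback.fst f h)) a) :
    ∃! b : Pic X, pull σ b = 1 ∧ pull (pullback.fst f h) b = a :=
  haveI : IsFpqc h := IsFpqc.of_locallyOfFinitePresentation h
  existsUnique_pic_descends_fpqc ha σ hσ h σ' hσ'g hσ'π a hrig hglue

/-- The projection of a base change has the same property. -/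
theorem univConst_XTproj (ha : UnivConst f) (T : Over S) : UnivConst (PicF.XTproj f T) := fun T' V => by
  haveI : IsIso ((pullback.snd f (T'.hom ≫ T.hom)).app V) := ha (Over.mk (T'.hom ≫ T.hom)) V
  have e : PicF.XTproj (PicF.XTproj f T) T' =
      (pullbackLeftPullbackSndIso f T.hom T'.hom).hom ≫ pullback.snd f (T'.hom ≫ T.hom) := by
    simp [PicF.XTproj]
  rw [e, Scheme.Hom.comp_app]
  infer_instance

variable (σ : S ⟶ X) (hσ : σ ≫ f = 𝟙 S)

theorem secT_proj (T : Over S) : PicF.secT f σ hσ T ≫ PicF.XTproj f T = 𝟙 _ := pullback.lift_snd _ _ _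

theorem secT_XTmap {T T' : Over S} (g : T' ⟶ T) :
    PicF.secT f σ hσ T' ≫ PicF.XTmap f g = g.left ≫ PicF.secT f σ hσ T := by
  apply pullback.hom_ext <;> simp [PicF.secT, PicF.XTmap, Over.w_assoc g]
  exact Category.id_comp _

theorem XTmap_proj {T T' : Over S} (g : T' ⟶ T) :
    PicF.XTmap f g ≫ PicF.XTproj f T = PicF.XTproj f T' ≫ g.left := by simp [PicF.XTmap]

theorem exists_rig {T : Over S} (c : PicF.Rig f σ hσ T) :
    ∃ a : Pic (PicF.XT f T), toCl a = c.1 ∧ pull (PicF.secT f σ hσ T) a = 1 := by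
  obtain ⟨c, ⟨L, rfl, hL⟩, ht⟩ := c
  exact ⟨cls hL, rfl, toCl_injective ((toCl_pull _ _).trans ht)⟩

theorem rig_mem {T : Over S} {a : Pic (PicF.XT f T)} (h : pull (PicF.secT f σ hσ T) a = 1) :
    PicF.IsInvertibleCl (toCl a) ∧ PicF.IsTrivialCl (PicF.pullCl (PicF.secT f σ hσ T) (toCl a)) := by
  refine ⟨?_, ?_⟩
  · obtain ⟨L, hL, rfl⟩ := exists_cls a
    exact ⟨L, rfl, hL⟩
  · rw [← toCl_pull, h]
    rfl

/-- Descent of rigidified classes along a single fpqc covering. -/
theorem existsUnique_rig_fpqc (ha : UnivConst f) (T : Over S) {U : Scheme.{u}} (u : U ⟶ T.left) [IsFpqc u]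
    (a : Pic (PicF.XT f (AbDual.ovr T u)))
    (hrig : pull (PicF.secT f σ hσ (AbDual.ovr T u)) a = 1)
    (hglue : pull (PicF.XTmap f (AbDual.ovrHom (AbDual.ovr T u) (pullback.fst u u))) a =
      pull (PicF.XTmap f (Over.homMk (pullback.snd u u) (pullback.condition_assoc T.hom).symm :
        AbDual.ovr (AbDual.ovr T u) (pullback.fst u u) ⟶ AbDual.ovr T u)) a) :
    ∃! b : Pic (PicF.XT f T), pull (PicF.secT f σ hσ T) b = 1 ∧ pull (PicF.XTmap f (AbDual.ovrHom T u)) b = a := by
  let e : pullback (PicF.XTproj f T) u ⟶ PicF.XT f (AbDual.ovr T u) := (pullbackLeftPullbackSndIso f T.hom u).hom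
  haveI : IsIso e := inferInstanceAs (IsIso (pullbackLeftPullbackSndIso f T.hom u).hom)
  have he : e ≫ PicF.XTmap f (AbDual.ovrHom T u) = pullback.fst (PicF.XTproj f T) u := by
    apply pullback.hom_ext <;> simp [e, PicF.XTmap, PicF.XTproj, pullback.condition]
  let g := pullback.fst (PicF.XTproj f T) u
  let π := pullback.snd (PicF.XTproj f T) u
  let σ' : U ⟶ pullback (PicF.XTproj f T) u := pullback.lift (u ≫ PicF.secT f σ hσ T) (𝟙 U) (by
    rw [Category.assoc, secT_proj]; simp)
  have hσ'e : σ' ≫ e = PicF.secT f σ hσ (AbDual.ovr T u) := by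
    apply pullback.hom_ext <;> simp [σ', e, PicF.secT]
  have hrig' : pull σ' (pull e a) = 1 := by rw [← pull_comp, hσ'e]; exact hrig
  let m : pullback g g ⟶ PicF.XT f (AbDual.ovr (AbDual.ovr T u) (pullback.fst u u)) :=
    pullback.lift (pullback.fst g g ≫ g ≫ pullback.fst f T.hom)
      (pullback.lift (pullback.fst g g ≫ π) (pullback.snd g g ≫ π) (by
        simp only [Category.assoc, g, π, ← pullback.condition, pullback.condition_assoc])) (by
        simp [g, π, pullback.condition, pullback.condition_assoc])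
  have hm₁ : pullback.fst g g ≫ e = m ≫ PicF.XTmap f (AbDual.ovrHom (AbDual.ovr T u) (pullback.fst u u)) := by
    apply pullback.hom_ext <;> simp [m, e, PicF.XTmap, g, π]
  have hm₂ : pullback.snd g g ≫ e = m ≫ PicF.XTmap f (Over.homMk (pullback.snd u u) (pullback.condition_assoc T.hom).symm :
      AbDual.ovr (AbDual.ovr T u) (pullback.fst u u) ⟶ AbDual.ovr T u) := by
    apply pullback.hom_ext <;> simp [m, e, PicF.XTmap, g, π, pullback.condition_assoc]
  have hglue' : pull (pullback.fst g g) (pull e a) = pull (pullback.snd g g) (pull e a) := by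
    rw [pull_pull_of_eq hm₁, hglue, pull_pull_of_eq hm₂]
  obtain ⟨b, ⟨hb, hb'⟩, huniq⟩ := existsUnique_pic_descends_fpqc (univConst_XTproj ha T) _ (secT_proj σ hσ T) u σ'
    (pullback.lift_fst _ _ _) (pullback.lift_snd _ _ _) (pull e a) hrig' hglue'
  refine ⟨b, ⟨hb, pull_injective_of_isIso e ?_⟩, fun b' hb₁ => huniq b' ⟨hb₁.1, ?_⟩⟩
  · rw [← pull_comp, he, hb']
  · rw [← he, pull_comp, hb₁.2]

/-- Descent of rigidified classes along a single fppf covering. -/
theorem existsUnique_rig (ha : UnivConst f) (T : Over S) {U : Scheme.{u}} (u : U ⟶ T.left) [Flat u]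
    [LocallyOfFinitePresentation u] [Surjective u] (a : Pic (PicF.XT f (AbDual.ovr T u)))
    (hrig : pull (PicF.secT f σ hσ (AbDual.ovr T u)) a = 1)
    (hglue : pull (PicF.XTmap f (AbDual.ovrHom (AbDual.ovr T u) (pullback.fst u u))) a =
      pull (PicF.XTmap f (Over.homMk (pullback.snd u u) (pullback.condition_assoc T.hom).symm :
        AbDual.ovr (AbDual.ovr T u) (pullback.fst u u) ⟶ AbDual.ovr T u)) a) :
    ∃! b : Pic (PicF.XT f T), pull (PicF.secT f σ hσ T) b = 1 ∧ pull (PicF.XTmap f (AbDual.ovrHom T u)) b = a :=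
  haveI : IsFpqc u := IsFpqc.of_locallyOfFinitePresentation u
  existsUnique_rig_fpqc σ hσ ha T u a hrig hglue

end Groth.Agent.InvDescLib
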