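import Groth.Agent.InvDescLib.Fun
import Groth.Agent.InvDescLib.Alg

/-!
# Unit cocycles of an fpqc covering are locally coboundaries on the base
-/

set_option autoImplicit false
set_option backward.isDefEq.respectTransparency false
set_option linter.style.haveILetI false

universe u

open CategoryTheory CategoryTheory.Limits AlgebraicGeometry TopologicalSpace
open Groth.Agent.SchDesc

noncomputable section

namespace Groth.Agent.InvDescLib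

variable {S S' : Scheme.{u}} (h : S' ⟶ S)

/-- The value of a function on `S' ×_S S'` at a pair of points. -/
def val2 (u : Γ(pullback h h, ⊤)) {T : Scheme.{u}} (a b : T ⟶ S') (w : a ≫ h = b ≫ h) : Γ(T, ⊤) :=
  (pullback.lift a b w).appTop u

theorem val2_comp (u : Γ(pullback h h, ⊤)) {T' T : Scheme.{u}} (m : T' ⟶ T) (a b : T ⟶ S') (w : a ≫ h = b ≫ h)
    (a' b' : T' ⟶ S') (ha : m ≫ a = a') (hb : m ≫ b = b') (w' : a' ≫ h = b' ≫ h) :
    m.appTop (val2 h u a b w) = val2 h u a' b' w' := by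
  subst ha hb
  rw [val2, val2, ← CommRingCat.comp_apply, ← Scheme.Hom.comp_appTop]
  have e : m ≫ pullback.lift a b w = pullback.lift (m ≫ a) (m ≫ b) w' := by
    apply pullback.hom_ext <;> simp
  rw [e]

theorem isUnit_val2 {u : Γ(pullback h h, ⊤)} (hu : IsUnit u) {T : Scheme.{u}} (a b : T ⟶ S')
    (w : a ≫ h = b ≫ h) : IsUnit (val2 h u a b w) := hu.map _

/-- The cocycle identity. -/
def Cocycle (u : Γ(pullback h h, ⊤)) : Prop :=
  ∀ (T : Scheme.{u}) (a b c : T ⟶ S') (w₁ : a ≫ h = b ≫ h) (w₂ : b ≫ h = c ≫ h),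
    val2 h u a b w₁ * val2 h u b c w₂ = val2 h u a c (w₁.trans w₂)

theorem ev_top {T X : Scheme.{u}} (a : T ⟶ X) (e : ∀ t, a t ∈ (⊤ : X.Opens)) (z : Γ(X, ⊤)) : ev a e z = a.appTop z := by
  show _ = a.app ⊤ z
  rw [Scheme.Hom.app_eq_appLE]
  rfl

theorem isUnit_of_appTop {X Y : Scheme.{u}} (g : X ⟶ Y) [Surjective g] {K : Γ(Y, ⊤)}
    (hK : IsUnit (g.appTop K)) : IsUnit K := by
  refine RingedSpace.isUnit_of_isUnit_germ _ _ K fun y hy => ?_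
  obtain ⟨x, rfl⟩ := g.surjective y
  have h1 : x ∈ X.basicOpen (g.appTop K) := by
    rw [Scheme.mem_basicOpen_top]
    exact hK.map _
  rw [← Scheme.preimage_basicOpen_top] at h1
  exact (Scheme.mem_basicOpen_top Y K (g x)).1 h1

/-- Unit cocycles are coboundaries of units near every point of the base. -/
theorem exists_local_unit_of_cocycle [IsFpqc h] {u : Γ(pullback h h, ⊤)} (hu : IsUnit u) (hc : Cocycle h u) (x : S) :
    ∃ D : S.Opens, x ∈ D ∧ ∃ k : Γ(S', h ⁻¹ᵁ D), IsUnit k ∧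
      ∀ (T : Scheme.{u}) (a b : T ⟶ S') (ea : ∀ t, a t ∈ h ⁻¹ᵁ D) (eb : ∀ t, b t ∈ h ⁻¹ᵁ D) (w : a ≫ h = b ≫ h),
        val2 h u a b w * ev a ea k = ev b eb k := by
  obtain ⟨_, ⟨W : S.Opens, hW, rfl⟩, hxW, -⟩ := S.isBasis_affineOpens.exists_subset_of_mem_open (Set.mem_univ x) isOpen_univ
  have hW : IsAffineOpen W := hW
  obtain ⟨Q, q, l, hQ, -, -, hql, hfl, hls, hlq⟩ := IsFpqc.exists_affine h hW
  haveI : IsAffine (W : Scheme.{u}) := hW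
  let φ := l.appTop
  letI : Algebra Γ((W : Scheme.{u}), ⊤) Γ(Q, ⊤) := φ.hom.toAlgebra
  haveI : Module.FaithfullyFlat Γ((W : Scheme.{u}), ⊤) Γ(Q, ⊤) := by
    refine RingHom.faithfullyFlat_algebraMap_iff.1 ((flat_and_surjective_SpecMap_iff φ).1 ?_)
    have e : Spec.map φ = Q.isoSpec.inv ≫ l ≫ (W : Scheme.{u}).isoSpec.hom := by
      rw [Iso.eq_inv_comp, Scheme.isoSpec_hom, Scheme.isoSpec_hom, Scheme.toSpecΓ_naturality]
    rw [e]
    exact ⟨inferInstance, inferInstance⟩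
  let pt : ∀ {C : CommRingCat.{u}}, (Γ(Q, ⊤) →+* C) → (Spec C ⟶ Q) := fun {C} a =>
    Spec.map (CommRingCat.ofHom a) ≫ Q.isoSpec.inv
  have hpt : ∀ {C : Type u} [CommRing C] [Algebra Γ((W : Scheme.{u}), ⊤) C]
      (a b : Γ(Q, ⊤) →ₐ[Γ((W : Scheme.{u}), ⊤)] C),
      (pt (C := CommRingCat.of C) a.toRingHom ≫ q) ≫ h = (pt (C := CommRingCat.of C) b.toRingHom ≫ q) ≫ h := by
    intro C _ _ a b
    have e : ∀ a : Γ(Q, ⊤) →ₐ[Γ((W : Scheme.{u}), ⊤)] C, Spec.map (CommRingCat.ofHom a.toRingHom) ≫ Q.isoSpec.inv ≫ l =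
        Spec.map (CommRingCat.ofHom (algebraMap Γ((W : Scheme.{u}), ⊤) C)) ≫ (W : Scheme.{u}).isoSpec.inv := fun a => by
      rw [show Q.isoSpec.inv ≫ l = Spec.map φ ≫ (W : Scheme.{u}).isoSpec.inv by
        rw [Iso.inv_comp_eq, ← Category.assoc, Iso.eq_comp_inv, Scheme.isoSpec_hom, Scheme.isoSpec_hom,
          Scheme.toSpecΓ_naturality], ← Category.assoc, ← Spec.map_comp]
      congr 2
      exact CommRingCat.hom_ext a.comp_algebraMap
    show ((Spec.map (CommRingCat.ofHom a.toRingHom) ≫ Q.isoSpec.inv) ≫ q) ≫ h =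
      ((Spec.map (CommRingCat.ofHom b.toRingHom) ≫ Q.isoSpec.inv) ≫ q) ≫ h
    simp only [Category.assoc, hql, reassoc_of% (e a), reassoc_of% (e b)]
  let ι₁ : Γ(Q, ⊤) →ₐ[Γ((W : Scheme.{u}), ⊤)] TensorProduct Γ((W : Scheme.{u}), ⊤) Γ(Q, ⊤) Γ(Q, ⊤) :=
    Algebra.TensorProduct.includeLeft
  let ι₂ : Γ(Q, ⊤) →ₐ[Γ((W : Scheme.{u}), ⊤)] TensorProduct Γ((W : Scheme.{u}), ⊤) Γ(Q, ⊤) Γ(Q, ⊤) :=
    Algebra.TensorProduct.includeRight
  let uR : TensorProduct Γ((W : Scheme.{u}), ⊤) Γ(Q, ⊤) Γ(Q, ⊤) :=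
    (Scheme.ΓSpecIso (CommRingCat.of (TensorProduct Γ((W : Scheme.{u}), ⊤) Γ(Q, ⊤) Γ(Q, ⊤)))).hom
      (val2 h u (pt ι₁.toRingHom ≫ q) (pt ι₂.toRingHom ≫ q) (hpt ι₁ ι₂))
  have huR : IsUnit uR := (isUnit_val2 h hu _ _ _).map _
  have hpair : ∀ (C : Type u) [CommRing C] [Algebra Γ((W : Scheme.{u}), ⊤) C]
      (a b : Γ(Q, ⊤) →ₐ[Γ((W : Scheme.{u}), ⊤)] C), pair a b uR =
        (Scheme.ΓSpecIso (CommRingCat.of C)).hom
          (val2 h u (pt (C := CommRingCat.of C) a.toRingHom ≫ q) (pt (C := CommRingCat.of C) b.toRingHom ≫ q) (hpt a b)) := by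
    intro C _ _ a b
    let m := Spec.map (CommRingCat.ofHom (pair a b).toRingHom)
    have hm : ∀ (j : Γ(Q, ⊤) →ₐ[Γ((W : Scheme.{u}), ⊤)] TensorProduct Γ((W : Scheme.{u}), ⊤) Γ(Q, ⊤) Γ(Q, ⊤))
        (c : Γ(Q, ⊤) →ₐ[Γ((W : Scheme.{u}), ⊤)] C), (∀ z, pair a b (j z) = c z) →
        m ≫ pt j.toRingHom ≫ q = pt (C := CommRingCat.of C) c.toRingHom ≫ q := fun j c hjc => by
      simp only [pt, m, Category.assoc, ← Spec.map_comp_assoc]
      congr 2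
      exact CommRingCat.hom_ext (RingHom.ext hjc)
    rw [← val2_comp h u m _ _ (hpt ι₁ ι₂) _ _ (hm ι₁ a fun z => by simp [ι₁, pair_tmul])
      (hm ι₂ b fun z => by simp [ι₂, pair_tmul])]
    exact (ConcreteCategory.congr_hom (Scheme.ΓSpecIso_naturality (CommRingCat.ofHom (pair a b).toRingHom)) _).symm
  have hcR : ∀ (C : Type u) [CommRing C] [Algebra Γ((W : Scheme.{u}), ⊤) C]
      (a b c : Γ(Q, ⊤) →ₐ[Γ((W : Scheme.{u}), ⊤)] C), pair a b uR * pair b c uR = pair a c uR := by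
    intro C _ _ a b c
    rw [hpair, hpair, hpair, ← map_mul, hc _ _ _ _ (hpt a b) (hpt b c)]
  obtain ⟨p, rfl⟩ : ∃ p : (W : Scheme.{u}), W.ι p = x := ⟨⟨x, hxW⟩, rfl⟩
  let P₀ : Spec Γ((W : Scheme.{u}), ⊤) := (W : Scheme.{u}).isoSpec.hom p
  obtain ⟨f, hf, k₀, k₀', hk₀, hkk⟩ := exists_local_unit uR huR hcR P₀.asIdeal
  -- the relation on points of `Q`
  have hQ : ∀ (T : Scheme.{u}) (a b : T ⟶ Q) (w : a ≫ l = b ≫ l) (w' : (a ≫ q) ≫ h = (b ≫ q) ≫ h),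
      val2 h u (a ≫ q) (b ≫ q) w' * a.appTop k₀ = b.appTop k₀ := by
    intro T a b w w'
    letI : Algebra Γ((W : Scheme.{u}), ⊤) Γ(T, ⊤) := (a ≫ l).appTop.hom.toAlgebra
    let a' : Γ(Q, ⊤) →ₐ[Γ((W : Scheme.{u}), ⊤)] Γ(T, ⊤) :=
      { a.appTop.hom with commutes' := fun r => rfl }
    let b' : Γ(Q, ⊤) →ₐ[Γ((W : Scheme.{u}), ⊤)] Γ(T, ⊤) :=
      { b.appTop.hom with commutes' := fun r => show (b ≫ l).appTop r = (a ≫ l).appTop r by rw [w] }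
    have e : ∀ (a : T ⟶ Q), T.toSpecΓ ≫ Spec.map a.appTop ≫ Q.isoSpec.inv = a := fun a => by
      rw [← Category.assoc, Iso.comp_inv_eq, Scheme.isoSpec_hom, Scheme.toSpecΓ_naturality]
    have h1 : pair a' b' uR = val2 h u (a ≫ q) (b ≫ q) w' := by
      rw [hpair, show ∀ z, (Scheme.ΓSpecIso (CommRingCat.of Γ(T, ⊤))).hom z = T.toSpecΓ.appTop z from
        fun z => (congr($(Scheme.toSpecΓ_appTop T) z)).symm]
      exact val2_comp h u T.toSpecΓ _ _ (hpt a' b') _ _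
        (by rw [← Category.assoc]; exact congrArg (· ≫ q) (e a))
        (by rw [← Category.assoc]; exact congrArg (· ≫ q) (e b)) _
    rw [← h1]
    have := congrArg (pair a' b') hk₀
    rw [map_mul, pair_tmul, pair_tmul, map_one, map_one, _root_.mul_one, _root_.one_mul] at this
    exact this
  let B := (W : Scheme.{u}).basicOpen f
  let jB : (B : Scheme.{u}) ⟶ S := B.ι ≫ W.ι
  let D := jB.opensRange
  have hxD : W.ι p ∈ D := by
    have hp : p ∈ B := by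
      have : P₀ ∈ PrimeSpectrum.basicOpen f := hf
      show p ∈ (W : Scheme.{u}).basicOpen f
      rw [← (W : Scheme.{u}).toSpecΓ_preimage_basicOpen f]
      exact this
    exact ⟨⟨p, hp⟩, rfl⟩
  let π : (h ⁻¹ᵁ D : Scheme.{u}) ⟶ (B : Scheme.{u}) := IsOpenImmersion.lift jB ((h ⁻¹ᵁ D).ι ≫ h) (by
    rintro _ ⟨z, rfl⟩; exact z.2)
  have hπ : π ≫ jB = (h ⁻¹ᵁ D).ι ≫ h := IsOpenImmersion.lift_fac _ _ _
  haveI : IsFpqc l := IsFpqc.of_quasiCompact l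
  haveI := isFpqc_restrict l B
  let g := pullback.snd (l ∣_ B) π
  haveI : IsFpqc g := IsFpqc.of_isPullback (IsPullback.of_hasPullback (l ∣_ B) π)
  let pQ : pullback (l ∣_ B) π ⟶ Q := pullback.fst (l ∣_ B) π ≫ (l ⁻¹ᵁ B).ι
  let pS : pullback (l ∣_ B) π ⟶ S' := g ≫ (h ⁻¹ᵁ D).ι
  have hpl : pQ ≫ l = g ≫ π ≫ B.ι := by
    rw [Category.assoc, ← morphismRestrict_ι, pullback.condition_assoc]
  have hw : (pQ ≫ q) ≫ h = pS ≫ h := by
    rw [Category.assoc, hql, reassoc_of% hpl, Category.assoc, ← hπ]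
  let r : Γ(pullback (l ∣_ B) π, ⊤) := val2 h u (pQ ≫ q) pS hw * pQ.appTop k₀
  have hr : IsUnit r := by
    refine (isUnit_val2 h hu _ _ _).mul (isUnit_of_mul_isUnit_left (y := pQ.appTop k₀') ?_)
    rw [← map_mul, hkk]
    show IsUnit (pQ.appTop (l.appTop f))
    rw [← CommRingCat.comp_apply, ← Scheme.Hom.comp_appTop, hpl, Scheme.Hom.comp_appTop, Scheme.Hom.comp_appTop]
    simp only [CommRingCat.comp_apply]
    refine (IsUnit.map π.appTop.hom ?_).map g.appTop.hom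
    have h1 := (RingedSpace.isUnit_res_basicOpen (W : Scheme.{u}).toRingedSpace f).map B.topIso.inv.hom
    have h2 : B.ι.appTop f = B.topIso.inv ((W : Scheme.{u}).presheaf.map (homOfLE ((W : Scheme.{u}).basicOpen_le f)).op f) := by
      rw [← ev_ι, ← ev_top B.ι (fun t => trivial)]
      exact (ev_res B.ι ((W : Scheme.{u}).basicOpen_le f) (fun t => t.2) f).symm
    rw [h2]; exact h1
  obtain ⟨K, hK⟩ := exists_fun g (W := ⊤) r fun T a b ea eb hab => by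
    refine (ev_top a _ r).trans (Eq.trans ?_ (ev_top b _ r).symm)
    have hS : b ≫ pS = a ≫ pS := by simp only [pS]; rw [← Category.assoc, ← Category.assoc, hab]
    have hl : (a ≫ pQ) ≫ l = (b ≫ pQ) ≫ l := by
      calc (a ≫ pQ) ≫ l = a ≫ g ≫ π ≫ B.ι := by rw [Category.assoc, hpl]
        _ = b ≫ g ≫ π ≫ B.ι := by rw [← Category.assoc, hab, Category.assoc]
        _ = (b ≫ pQ) ≫ l := by rw [Category.assoc, hpl]
    have hl' : ((a ≫ pQ) ≫ q) ≫ h = ((b ≫ pQ) ≫ q) ≫ h := by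
      simp only [Category.assoc, hql] at hl ⊢; rw [reassoc_of% hl]
    have wa : ((a ≫ pQ) ≫ q) ≫ h = (a ≫ pS) ≫ h := by simp only [Category.assoc] at hw ⊢; rw [hw]
    have wb : ((b ≫ pQ) ≫ q) ≫ h = (a ≫ pS) ≫ h := hl'.symm.trans wa
    simp only [r, map_mul]
    rw [val2_comp h u a _ _ hw ((a ≫ pQ) ≫ q) (a ≫ pS) (Category.assoc _ _ _).symm rfl wa,
      val2_comp h u b _ _ hw ((b ≫ pQ) ≫ q) (a ≫ pS) (Category.assoc _ _ _).symm hS wb,
      ← CommRingCat.comp_apply, ← CommRingCat.comp_apply, ← Scheme.Hom.comp_appTop, ← Scheme.Hom.comp_appTop,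
      ← hc T _ _ _ hl' wb, ← hQ T (a ≫ pQ) (b ≫ pQ) hl hl']
    ring
  change g.appTop K = r at hK
  refine ⟨D, hxD, (h ⁻¹ᵁ D).topIso.hom K, (isUnit_of_appTop g (hK ▸ hr)).map _, fun T a b ea eb w => ?_⟩
  let a₀ : T ⟶ (h ⁻¹ᵁ D : Scheme.{u}) := IsOpenImmersion.lift (h ⁻¹ᵁ D).ι a (by
    rintro _ ⟨t, rfl⟩; rw [Scheme.Opens.range_ι]; exact ea t)
  let b₀ : T ⟶ (h ⁻¹ᵁ D : Scheme.{u}) := IsOpenImmersion.lift (h ⁻¹ᵁ D).ι b (by
    rintro _ ⟨t, rfl⟩; rw [Scheme.Opens.range_ι]; exact eb t)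
  have ha₀ : a₀ ≫ (h ⁻¹ᵁ D).ι = a := IsOpenImmersion.lift_fac _ _ _
  have hb₀ : b₀ ≫ (h ⁻¹ᵁ D).ι = b := IsOpenImmersion.lift_fac _ _ _
  have hev : ∀ (c₀ : T ⟶ (h ⁻¹ᵁ D : Scheme.{u})) (c : T ⟶ S') (_ : c₀ ≫ (h ⁻¹ᵁ D).ι = c) (ec : ∀ t, c t ∈ h ⁻¹ᵁ D),
      ev c ec ((h ⁻¹ᵁ D).topIso.hom K) = c₀.appTop K := fun c₀ c hc' ec => by
    rw [ev_congr hc'.symm ec (fun t => (c₀ t).2), ev_comp c₀ _ (fun t => t.2), ev_ι, Iso.hom_inv_id_apply]
  rw [hev a₀ a ha₀, hev b₀ b hb₀]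
  have hab : a₀ ≫ π = b₀ ≫ π := by
    rw [← cancel_mono jB, Category.assoc, Category.assoc, hπ, reassoc_of% ha₀, reassoc_of% hb₀, w]
  let m := pullback.snd (l ∣_ B) (a₀ ≫ π)
  haveI : IsFpqc m := IsFpqc.of_isPullback (IsPullback.of_hasPullback (l ∣_ B) (a₀ ≫ π))
  let za : pullback (l ∣_ B) (a₀ ≫ π) ⟶ pullback (l ∣_ B) π :=
    pullback.lift (pullback.fst _ _) (m ≫ a₀) (by rw [Category.assoc, pullback.condition])
  let zb : pullback (l ∣_ B) (a₀ ≫ π) ⟶ pullback (l ∣_ B) π :=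
    pullback.lift (pullback.fst _ _) (m ≫ b₀) (by rw [Category.assoc, ← hab, pullback.condition])
  apply appTop_injective m
  have hz : zb ≫ pQ = za ≫ pQ := by
    simp only [za, zb, pQ, ← Category.assoc, pullback.lift_fst]
  have hSa : za ≫ pS = m ≫ a := by simp only [za, pS, g, pullback.lift_snd_assoc, Category.assoc, ha₀]
  have hSb : zb ≫ pS = m ≫ b := by simp only [zb, pS, g, pullback.lift_snd_assoc, Category.assoc, hb₀]
  have w₂ : (m ≫ a) ≫ h = (m ≫ b) ≫ h := by rw [Category.assoc, w, Category.assoc]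
  have w₁ : ((za ≫ pQ) ≫ q) ≫ h = (m ≫ a) ≫ h := by
    rw [← hSa]; simp only [Category.assoc] at hw ⊢; rw [hw]
  have ga : za ≫ g = m ≫ a₀ := pullback.lift_snd _ _ _
  have gb : zb ≫ g = m ≫ b₀ := pullback.lift_snd _ _ _
  rw [map_mul, val2_comp h u m a b w (m ≫ a) (m ≫ b) rfl rfl w₂, ← CommRingCat.comp_apply, ← CommRingCat.comp_apply,
    ← Scheme.Hom.comp_appTop, ← Scheme.Hom.comp_appTop, ← ga, ← gb, Scheme.Hom.comp_appTop, Scheme.Hom.comp_appTop,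
    CommRingCat.comp_apply, CommRingCat.comp_apply, hK]
  simp only [r, map_mul]
  rw [val2_comp h u za _ _ hw ((za ≫ pQ) ≫ q) (m ≫ a) (Category.assoc _ _ _).symm hSa w₁,
    val2_comp h u zb _ _ hw ((za ≫ pQ) ≫ q) (m ≫ b) (by rw [← Category.assoc, hz]) hSb (w₁.trans w₂),
    ← CommRingCat.comp_apply, ← CommRingCat.comp_apply, ← Scheme.Hom.comp_appTop, ← Scheme.Hom.comp_appTop, hz,
    ← hc _ _ _ _ w₁ w₂]
  ring

end Groth.Agent.InvDescLib
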